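import Cfsg.Agent.Techniques.Functor.Chief

/-!
Elements acting trivially on all chief factors below a normal p-subgroup.
-/

set_option autoImplicit false

namespace Cfsg.Agent.Techniques.KInf

open Cfsg Subgroup
open scoped commutatorElement

variable {G : Type*} [Group G]

/-- The elements stabilizing every chief factor below `A`. -/
def stabilizes (A : Subgroup G) : Subgroup G where
  carrier := {x | ∀ U V : Subgroup G, IsChiefFactor U V → U ≤ A → ∀ u ∈ U, ⁅x, u⁆ ∈ V}
  one_mem' := fun _ V _ _ u _ => by rw [commutatorElement_one_left]; exact one_mem V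
  mul_mem' := by
    intro x y hx hy U V h hU u hu
    have e : ⁅x * y, u⁆ = x * ⁅y, u⁆ * x⁻¹ * ⁅x, u⁆ := by simp only [commutatorElement_def]; group
    rw [e]
    exact mul_mem (h.2.2.1.conj_mem _ (hy U V h hU u hu) x) (hx U V h hU u hu)
  inv_mem' := by
    intro x hx U V h hU u hu
    have e : ⁅x⁻¹, u⁆ = x⁻¹ * ⁅x, u⁆⁻¹ * (x⁻¹)⁻¹ := by simp only [commutatorElement_def]; group
    rw [e]
    exact h.2.2.1.conj_mem _ (inv_mem (hx U V h hU u hu)) _

theorem mem_stabilizes {A : Subgroup G} {x : G} :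
    x ∈ stabilizes A ↔ ∀ U V : Subgroup G, IsChiefFactor U V → U ≤ A → ∀ u ∈ U, ⁅x, u⁆ ∈ V :=
  Iff.rfl

instance stabilizes_normal (A : Subgroup G) : (stabilizes A).Normal := by
  refine ⟨fun x hx g => mem_stabilizes.mpr fun U V h hU u hu => ?_⟩
  have e : ⁅g * x * g⁻¹, u⁆ = g * ⁅x, g⁻¹ * u * g⁆ * g⁻¹ := by
    simp only [commutatorElement_def]; group
  rw [e]
  refine h.2.2.1.conj_mem _ (mem_stabilizes.mp hx U V h hU _ ?_) g
  simpa using h.2.1.conj_mem u hu g⁻¹

theorem not_stabilizes {A : Subgroup G} {x : G} (hx : x ∉ stabilizes A) :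
    ∃ U V : Subgroup G, IsChiefFactor U V ∧ U ≤ A ∧ ¬ ⁅U, zpowers x⁆ ≤ V := by
  simp only [mem_stabilizes, not_forall] at hx
  obtain ⟨U, V, h, hU, u, hu, hne⟩ := hx
  refine ⟨U, V, h, hU, fun hle => hne ?_⟩
  rw [commutator_comm] at hle
  exact hle (commutator_mem_commutator (mem_zpowers x) hu)

variable [Finite G] {p : ℕ} [Fact p.Prime]

/-- An element of order prime to `p` stabilizing a chief series of a normal p-subgroup centralizes it. -/
theorem mem_centralizer_of_stabilizes {A : Subgroup G} [hAn : A.Normal] (hA : IsPGroup p A)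
    {x : G} (hx : x ∈ stabilizes A) (hxo : (orderOf x).Coprime p) :
    x ∈ centralizer (A : Set G) := by
  suffices h : ∀ n, ∀ W : Subgroup G, Nat.card W = n → W.Normal → W ≤ A →
      x ∈ centralizer (W : Set G) from h _ A rfl hAn le_rfl
  intro n
  induction n using Nat.strongRecOn with
  | ind n ih =>
    intro W hn hW hWA
    by_cases hbot : W = ⊥
    · subst hbot; simp [mem_centralizer_iff]
    obtain ⟨V, hV⟩ := (Set.toFinite {N : Subgroup G | N.Normal ∧ N < W}).exists_maximal
      ⟨⊥, inferInstance, bot_lt_iff_ne_bot.mpr hbot⟩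
    obtain ⟨hVn, hVW⟩ := hV.1
    have hch : IsChiefFactor W V := ⟨hVW, hW, hVn, fun N hN h1 h2 => by
      rcases h2.eq_or_lt with e | e
      · exact Or.inr e
      · exact Or.inl (le_antisymm (hV.2 ⟨hN, e⟩ h1) h1)⟩
    have hcard : Nat.card V < n := hn ▸ lt_of_not_ge fun hge =>
      hVW.ne (Subgroup.eq_of_le_of_card_ge hVW.le hge)
    have hcV := ih _ hcard V rfl hVn (hVW.le.trans hWA)
    rw [mem_centralizer_iff]
    intro u hu
    have hc : ⁅x, u⁆ ∈ V := mem_stabilizes.mp hx W V hch hWA u hu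
    set c := ⁅x, u⁆ with hcdef
    have hcx : Commute x c := (mem_centralizer_iff.mp hcV c hc).symm
    have h1 : x * u * x⁻¹ = c * u := by rw [hcdef, commutatorElement_def]; group
    have hpow : ∀ m : ℕ, x ^ m * u * (x ^ m)⁻¹ = c ^ m * u := by
      intro m
      induction m with
      | zero => simp
      | succ m ihm =>
        calc x ^ (m + 1) * u * (x ^ (m + 1))⁻¹ = x * (x ^ m * u * (x ^ m)⁻¹) * x⁻¹ := by
              rw [pow_succ']; group
          _ = (x * c ^ m * x⁻¹) * (x * u * x⁻¹) := by rw [ihm]; group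
          _ = c ^ (m + 1) * u := by
              rw [(hcx.pow_right m).eq, mul_inv_cancel_right, h1, pow_succ, mul_assoc]
    have h2 := hpow (orderOf x)
    rw [pow_orderOf_eq_one, one_mul, inv_one, mul_one, right_eq_mul] at h2
    obtain ⟨k, hk⟩ := IsPGroup.iff_orderOf.mp hA ⟨c, hWA (hVW.le hc)⟩
    rw [orderOf_mk] at hk
    have h3 : orderOf c = 1 := Nat.eq_one_of_dvd_coprimes (Nat.Coprime.pow_right k hxo)
      (orderOf_dvd_of_pow_eq_one h2) (hk ▸ dvd_rfl)
    rw [orderOf_eq_one_iff] at h3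
    exact (commutatorElement_eq_one_iff_mul_comm.mp h3).symm

/-- Some power of `p` takes every element to one of order prime to `p`. -/
theorem exists_pow_coprime (x : G) : ∃ k : ℕ, (orderOf (x ^ p ^ k)).Coprime p := by
  have hp : p.Prime := Fact.out
  refine ⟨(orderOf x).factorization p, ?_⟩
  rw [orderOf_pow_of_dvd (pow_ne_zero _ hp.ne_zero) (Nat.ordProj_dvd _ _)]
  exact (Nat.coprime_ordCompl hp (orderOf_pos x).ne').symm

/-- The stabilizer modulo the centralizer is a p-group. -/
theorem isPGroup_map_stabilizes {A : Subgroup G} [A.Normal] (hA : IsPGroup p A) :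
    IsPGroup p ((stabilizes A).map (QuotientGroup.mk' (centralizer (A : Set G)))) := by
  rintro ⟨_, x, hx, rfl⟩
  obtain ⟨k, hk⟩ := exists_pow_coprime (p := p) x
  refine ⟨k, Subtype.ext ?_⟩
  rw [SubmonoidClass.coe_pow, OneMemClass.coe_one, ← map_pow, QuotientGroup.mk'_apply,
    QuotientGroup.eq_one_iff]
  exact mem_centralizer_of_stabilizes hA (pow_mem hx _) hk

end Cfsg.Agent.Techniques.KInf
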