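import Cfsg.Agent.Base.RecEqns
import Cfsg.Agent.Techniques.KInf.Stabilizer
import Cfsg.Agent.Techniques.Functor.TransferCore
import Cfsg.Agent.Techniques.Functor.Chief

/-!
Normalizer-form stability: transport, and groups with abelian p'-by-p quotient by the p-core.
-/

set_option autoImplicit false

namespace Cfsg.Agent.Techniques.KInf

open Cfsg Subgroup Cfsg.Agent.Techniques.Functor Cfsg.Agent.PLocal.Cores
open scoped commutatorElement

variable {p : ℕ} {G H : Type*} [Group G] [Group H]

theorem isNormalizerPStable_equiv (e : G ≃* H) (h : IsNormalizerPStable p G) :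
    IsNormalizerPStable p H := by
  intro P hP g hg hq
  let P' : Subgroup G := P.comap e.toMonoidHom
  have hmap : P'.map e.toMonoidHom = P := map_comap_eq_self_of_surjective e.surjective P
  have hinj : Function.Injective e.toMonoidHom := e.injective
  have hP' : IsPGroup p P' := hP.of_injective (e.toMonoidHom.subgroupComap P)
    fun a b hab => Subtype.ext (hinj (congrArg Subtype.val hab))
  have hg' : e.symm g ∈ normalizer (P' : Set G) := by
    rw [mem_normalizer_iff]
    intro x
    have := mem_normalizer_iff.mp hg (e x)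
    simpa [P', mem_comap] using this
  have hq' : ⁅⁅P', zpowers (e.symm g)⁆, zpowers (e.symm g)⁆ = ⊥ := by
    rw [← map_eq_bot_iff_of_injective _ hinj, map_commutator, map_commutator, hmap,
      MonoidHom.map_zpowers]
    simpa using hq
  have h1 := h P' hP' (e.symm g) hg' hq'
  have hN : (normalizer (P' : Set G)).map e.toMonoidHom = normalizer (P : Set H) := by
    rw [map_equiv_normalizer_eq, hmap]
  let eN : ↥(normalizer (P' : Set G)) ≃* ↥(normalizer (P : Set H)) :=
    (MulEquiv.subgroupMap e (normalizer (P' : Set G))).trans (MulEquiv.subgroupCongr hN)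
  have heN : ∀ x, ((eN x : ↥(normalizer (P : Set H))) : H) = e x := fun x => rfl
  have hC : ((centralizer (P' : Set G)).subgroupOf (normalizer (P' : Set G))).map eN.toMonoidHom =
      (centralizer (P : Set H)).subgroupOf (normalizer (P : Set H)) := by
    ext y
    constructor
    · rintro ⟨x, hx, rfl⟩
      rw [mem_subgroupOf, mem_centralizer_iff]
      intro z hz
      rw [SetLike.mem_coe, ← hmap] at hz
      obtain ⟨w, hw, rfl⟩ := hz
      change e w * e x = e x * e w
      rw [← map_mul, ← map_mul]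
      exact congrArg e (mem_centralizer_iff.mp hx w hw)
    · intro hy
      refine ⟨eN.symm y, ?_, eN.apply_symm_apply y⟩
      rw [SetLike.mem_coe, mem_subgroupOf, mem_centralizer_iff]
      intro w hw
      apply e.injective
      rw [map_mul, map_mul, ← heN, MulEquiv.apply_symm_apply]
      exact mem_centralizer_iff.mp hy (e w) hw
  have h2 := mem_map_of_mem (QuotientGroup.congr _ _ eN hC).toMonoidHom h1
  rw [map_pCore_equiv] at h2
  convert h2 using 1
  change _ = QuotientGroup.mk (eN ⟨e.symm g, hg'⟩)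
  refine congrArg QuotientGroup.mk (Subtype.ext ?_)
  rw [heN]
  exact (e.apply_symm_apply g).symm

/-- A normal p-subgroup, above it an abelian p'-group, above it a p-group. -/
def Layered (p : ℕ) (G : Type*) [Group G] : Prop :=
  ∃ Q N : Subgroup G, Q.Normal ∧ N.Normal ∧ IsPGroup p Q ∧ ⁅N, N⁆ ≤ Q ∧
    (∀ x ∈ N, ∃ m : ℕ, m.Coprime p ∧ x ^ m ∈ Q) ∧ ∀ x : G, ∃ k : ℕ, x ^ p ^ k ∈ N

theorem Layered.subgroup (h : Layered p G) (K : Subgroup G) : Layered p K := by
  obtain ⟨Q, N, hQ, hN, hQp, hNN, hm, hk⟩ := h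
  refine ⟨Q.subgroupOf K, N.subgroupOf K, inferInstance, inferInstance,
    hQp.comap_of_injective K.subtype K.subtype_injective, ?_, fun x hx => hm x hx, fun x => hk x⟩
  rw [commutator_le]
  intro a ha b hb
  exact hNN (commutator_mem_commutator (mem_subgroupOf.mp ha) (mem_subgroupOf.mp hb))

theorem Layered.map (h : Layered p G) {f : G →* H} (hf : Function.Surjective f) : Layered p H := by
  obtain ⟨Q, N, hQ, hN, hQp, hNN, hm, hk⟩ := h
  refine ⟨Q.map f, N.map f, hQ.map f hf, hN.map f hf, hQp.map f, ?_, ?_, fun y => ?_⟩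
  · rw [← map_commutator]; exact map_mono hNN
  · rintro _ ⟨x, hx, rfl⟩
    obtain ⟨m, hm1, hm2⟩ := hm x hx
    exact ⟨m, hm1, map_pow f x m ▸ mem_map_of_mem f hm2⟩
  · obtain ⟨x, rfl⟩ := hf y
    obtain ⟨k, hk⟩ := hk x
    exact ⟨k, map_pow f x _ ▸ mem_map_of_mem f hk⟩

variable [Finite G] [hp : Fact p.Prime]

omit [Finite G] in
/-- In exponent `p`, a quadratic element has zero period sums, so fixes what the p-core argument
needs: in a layered group of automorphisms without p-core it is trivial. -/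
theorem trivial_of_layered {A : Type*} [CommGroup A] [Finite A] {Γ : Subgroup (MulAut A)} [Finite Γ]
    (hA : ∀ a : A, a ^ p = 1) (hlay : Layered p Γ) (hcore : pCore p Γ = ⊥) {g : Γ}
    (hgp : ∃ k, orderOf g = p ^ k) (hsum : ∀ a : A, ∏ i ∈ Finset.range p, ((g ^ i : Γ) : MulAut A) a = 1) :
    g = 1 := by
  obtain ⟨Q, R, hQn, hRn, hQp, hRR, hm, hk⟩ := hlay
  have hQ : Q = ⊥ := le_bot_iff.mp (hcore ▸ le_pCore hQp)
  subst hQ
  have hR : ∀ a ∈ R, ∀ b ∈ R, a * b = b * a := fun a ha b hb =>
    commutatorElement_eq_one_iff_mul_comm.mp (mem_bot.mp (hRR (commutator_mem_commutator ha hb)))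
  have hRcop : (Nat.card R).Coprime p := by
    rw [Nat.coprime_comm, hp.out.coprime_iff_not_dvd]
    intro hd
    obtain ⟨x, hx⟩ := exists_prime_orderOf_dvd_card' (G := R) p hd
    obtain ⟨m, hm1, hm2⟩ := hm x x.2
    rw [mem_bot] at hm2
    have h1 : p ∣ m := by
      rw [← hx, ← Subgroup.orderOf_coe]
      exact orderOf_dvd_of_pow_eq_one hm2
    exact hp.out.one_lt.ne' (Nat.eq_one_of_dvd_coprimes hm1 h1 dvd_rfl)
  have hcent := action_trivial_of_sum (Γ.subtype) hR hRcop hA (g := g)
    (fun r hr => hRn.conj_mem r hr g) (isOfFinOrder_of_finite g) hgp hsum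
  set C := centralizer (R : Set Γ) with hCdef
  have hgC : g ∈ C := mem_centralizer_iff.mpr fun r hr => by
    have h1 : r⁻¹ * (g * r * g⁻¹) = 1 := Subtype.ext (hcent r hr)
    exact (mul_inv_eq_iff_eq_mul.mp (inv_mul_eq_one.mp h1).symm).symm
  let S : Sylow p C := default
  have hRC : R.subgroupOf C ≤ normalizer ((S : Subgroup C) : Set C) := by
    intro r hr
    refine centralizer_le_normalizer _ (mem_centralizer_iff.mpr fun s _ => Subtype.ext ?_)
    exact (mem_centralizer_iff.mp s.2 r hr).symm
  have hidx : ∃ j, (R.subgroupOf C).index = p ^ j := by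
    have h1 : IsPGroup p (↥C ⧸ R.subgroupOf C) := fun y => by
      obtain ⟨x, rfl⟩ := QuotientGroup.mk_surjective y
      obtain ⟨k, hk⟩ := hk (x : Γ)
      refine ⟨k, ?_⟩
      rw [← QuotientGroup.mk_pow, QuotientGroup.eq_one_iff, mem_subgroupOf, SubmonoidClass.coe_pow]
      exact hk
    exact h1.exists_card_eq
  have hSn : (S : Subgroup C).Normal := by
    rw [← normalizer_eq_top_iff, ← index_eq_one]
    obtain ⟨j, hj⟩ := hidx
    obtain ⟨i, -, hi⟩ := (Nat.dvd_prime_pow hp.out).mp (hj ▸ index_dvd_of_le hRC)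
    rcases i with _ | i
    · simpa using hi
    · exfalso
      refine S.not_dvd_index (dvd_trans ?_ (index_dvd_of_le le_normalizer))
      rw [hi]
      exact dvd_pow_self p (Nat.succ_ne_zero i)
  have : (S : Subgroup C).Characteristic := S.characteristic_of_normal hSn
  have hSbot : (S : Subgroup C).map C.subtype = ⊥ :=
    le_bot_iff.mp (hcore ▸ le_pCore (S.2.map C.subtype))
  rw [map_eq_bot_iff_of_injective _ C.subtype_injective] at hSbot
  have hCcop : ¬ p ∣ Nat.card C := fun hd => S.ne_bot_of_dvd_card hd hSbot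
  obtain ⟨k, hk⟩ := hgp
  rcases k with _ | k
  · exact orderOf_eq_one_iff.mp (by simpa using hk)
  · exfalso
    refine hCcop ((dvd_pow_self p (Nat.succ_ne_zero k)).trans (hk ▸ ?_))
    rw [show orderOf g = orderOf (⟨g, hgC⟩ : C) from (Subgroup.orderOf_mk g hgC).symm]
    exact orderOf_dvd_natCard _

omit hp in
theorem pow_mem_centralizer_of_quadratic [Fact p.Prime] {P : Subgroup G} (hP : IsPGroup p P) {g : G}
    (hg : g ∈ normalizer (P : Set G)) (hq : ⁅⁅P, zpowers g⁆, zpowers g⁆ = ⊥) :
    ∃ k, g ^ p ^ k ∈ centralizer (P : Set G) := by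
  obtain ⟨k, hk⟩ := hP.exists_card_eq
  refine ⟨k, mem_centralizer_iff.mpr fun v hv => ?_⟩
  set c := g * v * g⁻¹ * v⁻¹ with hc
  have hcP : c ∈ P := mul_mem ((mem_normalizer_iff.mp hg v).mp hv) (inv_mem hv)
  have hcm : c ∈ ⁅P, zpowers g⁆ := by
    rw [commutator_comm]
    have := commutator_mem_commutator (mem_zpowers g) hv
    rwa [commutatorElement_def] at this
  have hcg : Commute g c := mem_centralizer_iff.mp
    (commutator_eq_bot_iff_le_centralizer.mp hq hcm) g (mem_zpowers g)
  have h1' : g * v * g⁻¹ = c * v := by rw [hc]; group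
  have hiter : ∀ i : ℕ, g ^ i * v * (g ^ i)⁻¹ = c ^ i * v := by
    intro i
    induction i with
    | zero => simp
    | succ i ihi =>
      calc g ^ (i + 1) * v * (g ^ (i + 1))⁻¹ = g * (g ^ i * v * (g ^ i)⁻¹) * g⁻¹ := by
            rw [pow_succ']; group
        _ = (g * c ^ i * g⁻¹) * (g * v * g⁻¹) := by rw [ihi]; group
        _ = c ^ (i + 1) * v := by
            rw [(hcg.pow_right i).eq, mul_inv_cancel_right, h1', pow_succ]
            exact (mul_assoc _ _ _).symm
  have hcp : c ^ p ^ k = 1 := by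
    have h2 : (⟨c, hcP⟩ : P) ^ p ^ k = 1 := by rw [← hk]; exact pow_card_eq_one'
    exact congrArg Subtype.val h2
  have h3 := hiter (p ^ k)
  rw [hcp, one_mul] at h3
  exact (mul_inv_eq_iff_eq_mul.mp h3).symm

/-- A quadratic element acts trivially on each chief factor below a normal p-subgroup. -/
theorem mem_stabilizes_of_layered (hp2 : p ≠ 2) (hlay : Layered p G) {P : Subgroup G} [P.Normal]
    (hP : IsPGroup p P) {g : G} (hq : ⁅⁅P, zpowers g⁆, zpowers g⁆ = ⊥) : g ∈ stabilizes P := by
  rw [mem_stabilizes]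
  intro U V hch hU u hu
  have hUn : U.Normal := hch.2.1
  have hVn : V.Normal := hch.2.2.1
  set π := QuotientGroup.mk' V with hπ
  set X := U.map π with hX
  have hXn : X.Normal := hUn.map π (QuotientGroup.mk'_surjective V)
  have hUQ : U ≤ pCore p G := le_pCore (hP.to_le hU)
  have hcomm : IsMulCommutative ↥X := by
    rw [← le_centralizer_iff_isMulCommutative, ← commutator_eq_bot_iff_le_centralizer, hX,
      ← map_commutator, Subgroup.map_eq_bot_iff, QuotientGroup.ker_mk']
    exact (commutator_mono le_rfl hUQ).trans (chief_commutator_le hch hUQ)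
  let : CommGroup ↥X := { (inferInstance : Group ↥X) with mul_comm := hcomm.is_comm.comm }
  let ψ : G →* MulAut ↥X := (MulAut.conjNormal (H := X)).comp π
  have hψ : ∀ (g : G) (x : ↥X), ((ψ g x : ↥X) : G ⧸ V) = π g * x * (π g)⁻¹ := fun g x => rfl
  have hXp : ∀ x : ↥X, x ^ p = 1 := by
    intro x
    obtain ⟨y, hy, hyx⟩ := x.2
    refine Subtype.ext ?_
    rw [Subgroup.coe_pow, ← hyx, ← map_pow, QuotientGroup.mk'_apply, OneMemClass.coe_one,
      QuotientGroup.eq_one_iff]
    exact chief_pow_mem hch (hP.to_le hU) hy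
  -- no normal p-subgroup acts nontrivially
  have hcore : pCore p ψ.range = ⊥ := by
    set K := (pCore p ψ.range).comap ψ.rangeRestrict with hK
    have hKn : K.Normal := (pCore_normal' (p := p)).comap _
    set F := (centralizer ((K.map π : Subgroup (G ⧸ V)) : Set (G ⧸ V)) ⊓ X).comap π with hF
    have : (K.map π).Normal := hKn.map π (QuotientGroup.mk'_surjective V)
    have hFn : F.Normal := (inferInstance : (centralizer ((K.map π : Subgroup (G ⧸ V)) :
      Set (G ⧸ V)) ⊓ X).Normal).comap π
    have hne : X ≠ ⊥ := fun e' => hch.1.not_ge (by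
      have := (Subgroup.map_eq_bot_iff U).mp e'
      rwa [QuotientGroup.ker_mk'] at this)
    have hdvd : p ∣ Nat.card ↥X := by
      obtain ⟨i, hi⟩ := ((hP.to_le hU).map π : IsPGroup p X).exists_card_eq
      rcases i with _ | i
      · exact absurd (Subgroup.card_eq_one.mp (hi.trans (pow_zero p))) hne
      · rw [hi]; exact dvd_pow_self p (Nat.succ_ne_zero i)
    obtain ⟨z, hz, hz1⟩ := (isPGroup_pCore (p := p) (G := ψ.range)).map
      ψ.range.subtype |>.exists_fixed_point_of_prime_dvd_card_of_fixed_point ↥X hdvd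
      (show (1 : X) ∈ MulAction.fixedPoints ↥((pCore p ψ.range).map ψ.range.subtype) ↥X from
        fun k => map_one (k : MulAut X))
    obtain ⟨y, hy, hyz⟩ := z.2
    have hyF : y ∈ F := by
      refine ⟨mem_centralizer_iff.mpr ?_, by rw [hyz]; exact z.2⟩
      rintro _ ⟨k, hk, rfl⟩
      have h1 := congrArg Subtype.val (hz ⟨ψ k, ψ.rangeRestrict k, hk, rfl⟩)
      change ((ψ k z : X) : G ⧸ V) = z at h1
      rw [hψ, ← hyz] at h1
      exact mul_inv_eq_iff_eq_mul.mp h1
    have hVF : V ≤ F := fun v hv => by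
      have h1 : π v = 1 := (QuotientGroup.eq_one_iff v).mpr hv
      rw [hF, mem_comap, h1]; exact one_mem _
    have hFU : F ≤ U := by
      refine (comap_mono inf_le_right).trans ?_
      rw [hX, comap_map_eq_self (by rw [QuotientGroup.ker_mk']; exact hch.1.le)]
    rcases hch.2.2.2 F hFn hVF hFU with e | e
    · exact absurd (Subtype.ext (hyz.symm.trans
        ((QuotientGroup.eq_one_iff y).mpr (e.le hyF))).symm) hz1
    · rw [eq_bot_iff]
      rintro ⟨_, k, rfl⟩ hk
      rw [mem_bot]
      refine Subtype.ext (MulEquiv.ext fun x => Subtype.ext ?_)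
      obtain ⟨w, hw, hwx⟩ := x.2
      change ((ψ k x : X) : G ⧸ V) = x
      rw [hψ, mul_inv_eq_iff_eq_mul, ← hwx]
      exact mem_centralizer_iff.mp (e.ge hw).1 _ (mem_map_of_mem π hk)
  have hlay' : Layered p ψ.range := hlay.map ψ.rangeRestrict_surjective
  obtain ⟨k, hk⟩ := pow_mem_centralizer_of_quadratic hP
    (by rw [normalizer_eq_top]; exact mem_top g) hq
  have hk1 : ψ g ^ p ^ k = 1 := by
    rw [← map_pow]
    refine MulEquiv.ext fun x => Subtype.ext ?_
    obtain ⟨w, hw, hwx⟩ := x.2
    rw [hψ, MulAut.one_apply, mul_inv_eq_iff_eq_mul, ← hwx, ← map_mul, ← map_mul,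
      mem_centralizer_iff.mp hk w (hU hw)]
  have hnil : iterCommutator U (zpowers g) (p - 1) ≤ V := by
    have h2 := hp.out.two_le
    have h3 : ∀ n, 2 ≤ n → iterCommutator U (zpowers g) n = ⊥ := by
      intro n hn
      induction n, hn using Nat.le_induction with
      | base => exact eq_bot_iff.mpr ((commutator_mono (commutator_mono hU le_rfl) le_rfl).trans hq.le)
      | succ n _ ih =>
        change ⁅iterCommutator U (zpowers g) n, zpowers g⁆ = ⊥
        rw [ih, commutator_bot_left]
    rw [h3 _ (by omega)]; exact bot_le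
  have htriv := trivial_of_layered (p := p) (A := X) (Γ := ψ.range) hXp hlay' hcore
    (g := ψ.rangeRestrict g) ?_ ?_
  · have h1 : ψ g = 1 := congrArg Subtype.val htriv
    have h2 := congrArg Subtype.val (DFunLike.congr_fun h1 ⟨π u, mem_map_of_mem π hu⟩)
    rw [hψ, MulAut.one_apply] at h2
    rw [← QuotientGroup.eq_one_iff]
    change π ⁅g, u⁆ = 1
    rw [map_commutatorElement, commutatorElement_eq_one_iff_mul_comm]
    exact mul_inv_eq_iff_eq_mul.mp h2
  · obtain ⟨j, -, hj⟩ := (Nat.dvd_prime_pow hp.out).mp (orderOf_dvd_of_pow_eq_one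
      (show ψ.rangeRestrict g ^ p ^ k = 1 from Subtype.ext hk1))
    exact ⟨j, hj⟩
  · intro x
    obtain ⟨y, hy, hyx⟩ := x.2
    rw [← prod_range_map_conj (p := p) (V := V) (π.subgroupMap U) (fun _ => hXp _)
      (fun z hz => Subtype.ext ((QuotientGroup.eq_one_iff (z : G)).mpr hz)) hnil hy]
    refine Finset.prod_congr rfl fun i _ => Subtype.ext ?_
    rw [← map_pow]
    change ((ψ (g ^ i) x : X) : G ⧸ V) = π (g ^ i * y * (g ^ i)⁻¹)
    rw [hψ, ← hyx, map_mul, map_mul, map_inv]

/-- Layered groups are stable in the normalizer form for odd p. -/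
theorem isNormalizerPStable_of_layered (hp2 : p ≠ 2) (hlay : Layered p G) :
    IsNormalizerPStable p G := by
  intro P hP g hg hq
  set N := normalizer (P : Set G) with hN
  set P' := P.subgroupOf N
  have hPN : P ≤ N := le_normalizer
  have hP'p : IsPGroup p P' := hP.comap_of_injective N.subtype N.subtype_injective
  have : P'.Normal := normal_in_normalizer
  have hq' : ⁅⁅P', zpowers (⟨g, hg⟩ : N)⁆, zpowers (⟨g, hg⟩ : N)⁆ = ⊥ := by
    rw [← map_eq_bot_iff_of_injective _ N.subtype_injective, map_commutator, map_commutator,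
      MonoidHom.map_zpowers, map_subgroupOf_eq_of_le hPN]
    exact hq
  have hmem := mem_stabilizes_of_layered hp2 (hlay.subgroup N) hP'p hq'
  have hC : centralizer (P' : Set N) = (centralizer (P : Set G)).subgroupOf N := by
    ext x
    rw [mem_centralizer_iff, mem_subgroupOf, mem_centralizer_iff]
    exact ⟨fun h z hz => congrArg Subtype.val (h ⟨z, hPN hz⟩ hz),
      fun h z hz => Subtype.ext (h z hz)⟩
  set π := QuotientGroup.mk' ((centralizer (P : Set G)).subgroupOf N) with hπ
  have himg : IsPGroup p ((stabilizes P').map π) := by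
    rintro ⟨_, x, hx, rfl⟩
    obtain ⟨k, hk⟩ := exists_pow_coprime (p := p) x
    refine ⟨k, Subtype.ext ?_⟩
    rw [SubmonoidClass.coe_pow, OneMemClass.coe_one, ← map_pow, QuotientGroup.mk'_apply,
      QuotientGroup.eq_one_iff, ← hC]
    exact mem_centralizer_of_stabilizes hP'p (pow_mem hx _) hk
  have : ((stabilizes P').map π).Normal :=
    (stabilizes_normal P').map π (QuotientGroup.mk'_surjective _)
  exact le_pCore himg (mem_map_of_mem π hmem)

end Cfsg.Agent.Techniques.KInf
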