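import Cfsg.Agent.Techniques.KInf.Stability
import Cfsg.Agent.Techniques.KInf.Stable
import Cfsg.Agent.Techniques.Functor.FusionMain
import Cfsg.Agent.Techniques.Functor.ThompsonChief

/-!
Fusion and normal p-complements controlled by the K-infinity subgroups.
-/

set_option autoImplicit false

namespace Cfsg.Agent.Techniques.KInf

open Cfsg Subgroup Cfsg.Agent.Techniques.Functor Cfsg.Agent.Fusion.SylIn Cfsg.Agent.PLocal.Cores
open Cfsg.Agent.Transfer.NormalPComplement
open scoped commutatorElement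

universe u

variable {p : ℕ} [Fact p.Prime] {G : Type u} [Group G] [Finite G]

theorem controlsStrongFusion_of_fc {W : ∀ (Q : Type u) [Group Q], Subgroup Q}
    (h : FC p {W} G) (S : Sylow p G) (hW : IsCharPFunctor.{u} p W) :
    ControlsStrongFusion p (inducedFunctor (G := G) W (S : Subgroup G)) := by
  refine ⟨S, functor_le (isConjugacyFunctor_induced hW) S.2, fun A hA => ⟨hA, fun g hg => ?_⟩⟩
  have h1 := h S A g (mem_top g) hA hg
  rw [induced, Set.image_singleton, steps_singleton] at h1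
  obtain ⟨x, hx, he⟩ := Reach.exists_mem h1
  exact ⟨x, (mem_inf.mp hx).2, fun a ha => (he a ha).symm⟩

/-- If all sections are stable, the functor controls strong fusion. -/
theorem fc_of_stable {W : ∀ (Q : Type u) [Group Q], Subgroup Q} (hW : IsCharPFunctor.{u} p W)
    (hdis : ∀ (H : Type u) [Group H] [Finite H] (S : Sylow p H),
      ¬ (inducedFunctor W (S : Subgroup H)).Normal →
      ¬ (inducedFunctor kInfLower (S : Subgroup H)).Normal ∨
        ¬ (inducedFunctor kInfUpper (S : Subgroup H)).Normal)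
    (hst : ∀ (K R : Subgroup G) [(R.subgroupOf K).Normal],
      IsNormalizerPStable p (↥K ⧸ R.subgroupOf K)) : FC p {W} G := by
  have h𝓦 : ∀ V ∈ ({W} : Set (∀ (Q : Type u) [Group Q], Subgroup Q)), IsCharPFunctor.{u} p V := by
    rintro V rfl
    exact hW
  refine fc_of_constrained (G := G) h𝓦 (fun H _ _ hsec hc S => ?_) G (IsSec.refl G)
  by_cases hn : (inducedFunctor (G := H) W (S : Subgroup H)).Normal
  · intro A g _ hA hc'
    refine Reach.single ?_ hc'
    rw [induced, Set.image_singleton, steps_singleton, SetLike.mem_coe, mem_inf,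
      normalizer_eq_top_iff.mpr hn]
    exact ⟨mem_top g, mem_top g⟩
  · exfalso
    obtain ⟨g, -, -, -, -, hfac⟩ := exists_degree_four S (hdis H S hn)
    obtain ⟨U, V, hch, hU, hq, hne⟩ := hfac hc
    have := hch.2.2.1
    obtain ⟨K, R, hR, ⟨e⟩⟩ := (hsec.surj (QuotientGroup.mk'_surjective V)).exists_quotient
    exact not_stable_of_factor hch hU hq hne (isNormalizerPStable_equiv e (hst K R))

/-- The lower K-infinity subgroup detects normal p-complements. -/
theorem criterion_kInfLower (hp : p ≠ 2) :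
    Criterion p (fun (Q : Type u) [Group Q] => kInfLower Q) G := by
  refine criterion_of_sections (G := G) KSeq.isCharPFunctor_kInfLower (fun K R _ S hcrit => ?_)
    G (IsSec.refl G)
  obtain ⟨g, hgS, hgQ, -, -, hfac⟩ := exists_degree_four S (Or.inl hcrit.not_normal)
  obtain ⟨U, V, hch, hU, hq, hne⟩ := hfac hcrit.constrained
  have := hch.2.1
  have h2 := (Fact.out : p.Prime).two_le
  exact hne (hcrit.no_chief hgS hgQ hch hU
    ((iter_antitone U _ (by omega : 2 ≤ p - 1)).trans hq))

/-- If all p'-elements of the normalizer centralize, the normalizer has a normal p-complement. -/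
theorem hnc_of_coprime_centralize (S : Sylow p G) {K : Subgroup G} (hKS : K ≤ S)
    (hSN : (S : Subgroup G) ≤ normalizer (K : Set G))
    (hCK : (S : Subgroup G) ⊓ centralizer (K : Set G) ≤ K)
    (h : ∀ g ∈ normalizer (K : Set G), (orderOf g).Coprime p → g ∈ centralizer (K : Set G)) :
    HasNormalPComplement p ↥(normalizer (K : Set G)) := by
  set N := normalizer (K : Set G)
  set C := (centralizer (K : Set G)).subgroupOf N with hC
  have hCn : C.Normal := ⟨fun c hc n => by
    rw [hC, mem_subgroupOf] at hc ⊢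
    refine mem_centralizer_iff.mpr fun k hk => ?_
    have h1 := mem_centralizer_iff.mp hc _ ((mem_normalizer_iff''.mp n.2 k).mp hk)
    simp only [Subgroup.coe_mul, Subgroup.coe_inv]
    calc k * ((n : G) * c * (n : G)⁻¹) = (n : G) * (((n : G)⁻¹ * k * n) * c) * (n : G)⁻¹ := by group
      _ = (n : G) * ((c : G) * ((n : G)⁻¹ * k * n)) * (n : G)⁻¹ := by rw [h1]
      _ = (n : G) * c * (n : G)⁻¹ * k := by group⟩
  let R : Sylow p C := default
  have hRK : ∀ r ∈ (R : Subgroup C), ((r : N) : G) ∈ K := by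
    intro r hr
    have hs := sylIn_of_le S hSN
    obtain ⟨c, hc, hle⟩ := exists_conj_le_of_not_dvd_relIndex hs.1 hs.2.1 hs.2.2
      ((R.2.map C.subtype).map N.subtype) (map_subtype_le _)
    have h1 := hle _ (mem_map_of_mem _ (mem_map_of_mem _ hr))
    have h2 : c * ((r : N) : G) * c⁻¹ ∈ K := hCK (mem_inf.mpr ⟨h1, mem_centralizer_iff.mpr fun k hk => by
      have h3 := mem_centralizer_iff.mp (mem_subgroupOf.mp r.2) _
        ((mem_normalizer_iff''.mp hc k).mp hk)
      calc k * (c * ((r : N) : G) * c⁻¹) = c * ((c⁻¹ * k * c) * (r : N)) * c⁻¹ := by group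
        _ = c * (((r : N) : G) * (c⁻¹ * k * c)) * c⁻¹ := by rw [h3]
        _ = c * ((r : N) : G) * c⁻¹ * k := by group⟩)
    exact (mem_normalizer_iff.mp hc _).mpr h2
  have hCc := hasNormalPComplement_of_normalizer_le_centralizer R fun x _ =>
    mem_centralizer_iff.mpr fun r hr => Subtype.ext (Subtype.ext
      (mem_centralizer_iff.mp (mem_subgroupOf.mp x.2) _ (hRK r hr)))
  have hCq := hasNormalPComplement_iff_isPGroup_quotient.mp hCc
  rw [hasNormalPComplement_iff_isPGroup_quotient]
  intro y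
  obtain ⟨x, rfl⟩ := QuotientGroup.mk_surjective y
  obtain ⟨k, hk⟩ := exists_pow_coprime (p := p) x
  refine ⟨k, ?_⟩
  rw [← QuotientGroup.mk_pow, QuotientGroup.eq_one_iff]
  have hxC : x ^ p ^ k ∈ C := h _ (x ^ p ^ k).2 ((Subgroup.orderOf_coe (x ^ p ^ k)).symm ▸ hk)
  refine map_subtype_pPrimeCore_le (p := p) C ⟨⟨_, hxC⟩, ?_, rfl⟩
  rw [SetLike.mem_coe, ← QuotientGroup.eq_one_iff]
  obtain ⟨j, hj⟩ := IsPGroup.iff_orderOf.mp hCq (QuotientGroup.mk ⟨_, hxC⟩)
  have h1 : orderOf (QuotientGroup.mk ⟨_, hxC⟩ : ↥C ⧸ pPrimeCore p C) ∣ orderOf (x ^ p ^ k) := by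
    rw [← Subgroup.orderOf_mk (x ^ p ^ k) hxC]
    exact orderOf_map_dvd (QuotientGroup.mk' (pPrimeCore p C)) _
  exact orderOf_eq_one_iff.mp
    (Nat.eq_one_of_dvd_coprimes (hk.pow_right j) h1 (hj ▸ dvd_rfl))

theorem layered_of_critical {W : ∀ (Q : Type u) [Group Q], Subgroup Q} {S : Sylow p G}
    (h : Functor.Critical p W S) : Layered p G := by
  obtain ⟨N, hNn, hNcop, htop, hNab, -⟩ := h.exists_complement
  set f := QuotientGroup.mk' (pCore p G) with hf
  refine ⟨pCore p G, N.comap f, pCore_normal', hNn.comap f, isPGroup_pCore, ?_, fun x hx => ?_,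
    fun x => ?_⟩
  · rw [commutator_le]
    intro a ha b hb
    rw [← QuotientGroup.eq_one_iff]
    change f ⁅a, b⁆ = 1
    rw [map_commutatorElement, commutatorElement_eq_one_iff_mul_comm]
    exact hNab _ ha _ hb
  · refine ⟨Nat.card N, hNcop, (QuotientGroup.eq_one_iff _).mp ?_⟩
    have h1 : (⟨f x, hx⟩ : N) ^ Nat.card N = 1 := pow_card_eq_one'
    change f (x ^ Nat.card N) = 1
    rw [map_pow]
    exact congrArg Subtype.val h1
  · have h1 : IsPGroup p ((G ⧸ pCore p G) ⧸ N) := by
      refine IsPGroup.of_surjective S.2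
        ((QuotientGroup.mk' N).comp (f.comp (S : Subgroup G).subtype)) fun y => ?_
      obtain ⟨z, rfl⟩ := QuotientGroup.mk'_surjective _ y
      obtain ⟨n, hn, t, ⟨s, hs, rfl⟩, rfl⟩ :=
        mem_sup_of_normal_left.mp (htop.ge (mem_top z) : z ∈ N ⊔ _)
      refine ⟨⟨s, hs⟩, ?_⟩
      change QuotientGroup.mk' N (f s) = QuotientGroup.mk' N (n * f s)
      rw [map_mul (QuotientGroup.mk' N) n, show QuotientGroup.mk' N n = 1 from
        (QuotientGroup.eq_one_iff n).mpr hn, one_mul]
    obtain ⟨k, hk⟩ := h1 (QuotientGroup.mk (f x))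
    refine ⟨k, ?_⟩
    rw [← QuotientGroup.mk_pow, QuotientGroup.eq_one_iff] at hk
    rw [mem_comap, map_pow]
    exact hk

omit [Finite G] in
theorem stable_sections_of_layered [Finite G] (hp : p ≠ 2) (h : Layered p G) (K R : Subgroup G)
    [(R.subgroupOf K).Normal] : IsNormalizerPStable p (↥K ⧸ R.subgroupOf K) :=
  isNormalizerPStable_of_layered hp ((h.subgroup K).map (QuotientGroup.mk'_surjective _))

/-- A functor controlling fusion in stable groups detects normal p-complements. -/
theorem criterion_of_fusion (hp : p ≠ 2) {W : ∀ (Q : Type u) [Group Q], Subgroup Q}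
    (hW : IsCharPFunctor.{u} p W)
    (hctl : ∀ (K R : Subgroup G) [(R.subgroupOf K).Normal],
      (∀ (K' R' : Subgroup (↥K ⧸ R.subgroupOf K)) [(R'.subgroupOf K').Normal],
        IsNormalizerPStable p (↥K' ⧸ R'.subgroupOf K')) →
      ∀ T : Sylow p (↥K ⧸ R.subgroupOf K),
        ControlsStrongFusion p (inducedFunctor (G := (↥K ⧸ R.subgroupOf K)) W
          (T : Subgroup (↥K ⧸ R.subgroupOf K)))) :
    Criterion p W G := by
  refine criterion_of_sections (G := G) hW (fun K R _ S hcrit => ?_) G (IsSec.refl G)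
  obtain ⟨T, hUT, hT⟩ := hctl K R
    (fun K' R' _ => stable_sections_of_layered hp (layered_of_critical hcrit) K' R') S
  refine hcrit.not_normal (normalizer_eq_top_iff.mp (eq_top_iff.mpr fun g _ => ?_))
  have hQn : (pCore p (↥K ⧸ R.subgroupOf K)).Normal := pCore_normal'
  have hQT := pCore_le_sylow (p := p) T
  obtain ⟨-, hfus⟩ := hT (pCore p (↥K ⧸ R.subgroupOf K) : Set _) hQT
  obtain ⟨x, hx, he⟩ := hfus g (by
    rintro _ ⟨q, hq, rfl⟩
    exact hQT (hQn.conj_mem q hq g))
  have h1 : x⁻¹ * g ∈ centralizer (pCore p (↥K ⧸ R.subgroupOf K) : Set (↥K ⧸ R.subgroupOf K)) :=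
    mem_centralizer_iff.mpr fun q hq => by
      have h2 := he q hq
      calc q * (x⁻¹ * g) = x⁻¹ * (x * q * x⁻¹) * g := by group
        _ = x⁻¹ * (g * q * g⁻¹) * g := by rw [h2]
        _ = x⁻¹ * g * q := by group
  have h3 := mul_mem hx (le_normalizer.trans (normalizer_le_functor (isConjugacyFunctor_induced hW)
    S.2) (pCore_le_sylow S (hcrit.constrained h1)))
  simpa using h3

end Cfsg.Agent.Techniques.KInf
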