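import Cfsg.Agent.Base.RecEqns
import Cfsg.Prelude.Def_PLocal
import Cfsg.Agent.Techniques.KInf.Stabilizer
import Cfsg.Agent.Techniques.Functor.Semisimple
import Cfsg.Agent.Lib.PGroups.Basic

/-!
Degrees on chief factors of a p-group from the degrees on a critical subgroup.
-/

set_option autoImplicit false

namespace Cfsg.Agent.Techniques.KInf

open Cfsg Subgroup
open scoped commutatorElement

variable {G : Type*} [Group G]

theorem three_subgroup_mod {A B C W L : Subgroup G} (hA : A ≤ L) (hB : B ≤ L) (hC : C ≤ L)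
    (hW : W ≤ L) (hL : L ≤ normalizer (W : Set G))
    (h1 : ⁅⁅B, C⁆, A⁆ ≤ W) (h2 : ⁅⁅C, A⁆, B⁆ ≤ W) : ⁅⁅A, B⁆, C⁆ ≤ W := by
  have : (W.subgroupOf L).Normal := (normal_subgroupOf_iff_le_normalizer hW).mpr hL
  have key : ∀ X Y Z : Subgroup G, X ≤ L → Y ≤ L → Z ≤ L →
      (⁅⁅X.subgroupOf L, Y.subgroupOf L⁆, Z.subgroupOf L⁆ ≤ W.subgroupOf L ↔ ⁅⁅X, Y⁆, Z⁆ ≤ W) := by
    intro X Y Z hX hY hZ
    rw [← map_le_map_iff_of_injective L.subtype_injective, map_commutator, map_commutator,
      map_subgroupOf_eq_of_le hX, map_subgroupOf_eq_of_le hY, map_subgroupOf_eq_of_le hZ,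
      map_subgroupOf_eq_of_le hW]
  exact (key A B C hA hB hC).mp (Cfsg.Agent.PGroups.Basic.three_subgroups_le
    ((key B C A hB hC hA).mpr h1) ((key C A B hC hA hB).mpr h2))

theorem commutator_sup_normal_le (X H W : Subgroup G) [W.Normal] :
    ⁅X ⊔ W, H⁆ ≤ ⁅X, H⁆ ⊔ W := by
  have h : (⁅X ⊔ W, H⁆).map (QuotientGroup.mk' W) ≤ (⁅X, H⁆).map (QuotientGroup.mk' W) := by
    rw [map_commutator, map_commutator, Subgroup.map_sup, QuotientGroup.map_mk'_self, sup_bot_eq]
  have h1 := map_le_iff_le_comap.mp h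
  rwa [comap_map_eq, QuotientGroup.ker_mk'] at h1

theorem iter_succ (X H : Subgroup G) (n : ℕ) :
    iterCommutator X H (n + 1) = ⁅iterCommutator X H n, H⁆ := rfl

theorem iter_normalized (X H : Subgroup G) [X.Normal] (n : ℕ) :
    H ≤ normalizer ((iterCommutator X H n : Subgroup G) : Set G) := by
  cases n with
  | zero => rw [show iterCommutator X H 0 = X from rfl, normalizer_eq_top]; exact le_top
  | succ n => exact normalizer_commutator_ge_right _ _

theorem iter_antitone (X H : Subgroup G) [X.Normal] : Antitone (iterCommutator X H) :=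
  antitone_nat_of_succ_le fun n =>
    le_normalizer_iff_commutator_le_left.mp (iter_normalized X H n)

theorem iter_le (X H : Subgroup G) [X.Normal] (n : ℕ) : iterCommutator X H n ≤ X :=
  iter_antitone X H (Nat.zero_le n)

theorem iter_mono_left {X X' H : Subgroup G} (h : X ≤ X') (n : ℕ) :
    iterCommutator X H n ≤ iterCommutator X' H n := by
  induction n with
  | zero => exact h
  | succ n ih => exact commutator_mono ih le_rfl

theorem iter_sup_le (X W H : Subgroup G) [W.Normal] (n : ℕ) :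
    iterCommutator (X ⊔ W) H n ≤ iterCommutator X H n ⊔ W := by
  induction n with
  | zero => exact le_rfl
  | succ n ih => exact (commutator_mono ih le_rfl).trans (commutator_sup_normal_le _ _ _)

variable [Finite G]

theorem exists_maximal_normal_lt {W : Subgroup G} [W.Normal] (hW : W ≠ ⊥) :
    ∃ V : Subgroup G, V.Normal ∧ V < W ∧ IsChiefFactor W V ∧
      ∀ N : Subgroup G, N.Normal → V ≤ N → N < W → N = V := by
  obtain ⟨V, hV⟩ := (Set.toFinite {N : Subgroup G | N.Normal ∧ N < W}).exists_maximal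
    ⟨⊥, inferInstance, bot_lt_iff_ne_bot.mpr hW⟩
  have hmax : ∀ N : Subgroup G, N.Normal → V ≤ N → N < W → N = V :=
    fun N hN h1 h2 => le_antisymm (hV.2 ⟨hN, h2⟩ h1) h1
  refine ⟨V, hV.1.1, hV.1.2, ⟨hV.1.2, inferInstance, hV.1.1, fun N hN h1 h2 => ?_⟩, hmax⟩
  rcases h2.eq_or_lt with e | e
  · exact Or.inr e
  · exact Or.inl (hmax N hN h1 e)

/-- Degrees add up along a critical subgroup. -/
theorem iter_le_of_critical {p : ℕ} [Fact p.Prime] {P Q : Subgroup G} [P.Normal] [Q.Normal]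
    (hP : IsPGroup p P) (hQP : Q ≤ P) (hcomm : ⁅P, Q⁆ ≤ Q ⊓ centralizer (Q : Set G))
    (hcent : P ⊓ centralizer (Q : Set G) = Q ⊓ centralizer (Q : Set G))
    {g : G} {i j : ℕ} (hi : 1 ≤ i) (hj : 1 ≤ j)
    (hQi : ∀ U V : Subgroup G, IsChiefFactor U V → U ≤ Q → iterCommutator U (zpowers g) i ≤ V)
    (hZj : ∀ U V : Subgroup G, IsChiefFactor U V → U ≤ Q ⊓ centralizer (Q : Set G) →
      iterCommutator U (zpowers g) j ≤ V)
    {U V : Subgroup G} (hch : IsChiefFactor U V) (hUP : U ≤ P) :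
    iterCommutator U (zpowers g) (i + j - 1) ≤ V := by
  have hUn := hch.2.1
  have hVn := hch.2.2.1
  obtain ⟨X, hX⟩ := (Set.toFinite {N : Subgroup G | N.Normal ∧ N ≤ U ∧ ¬ N ≤ V}).exists_minimal
    ⟨U, hUn, le_rfl, hch.1.not_ge⟩
  obtain ⟨hXn, hXU, hXV⟩ := hX.1
  have hmin : ∀ N : Subgroup G, N.Normal → N < X → N ≤ V := fun N hN hlt => by
    by_contra h
    exact hlt.not_ge (hX.2 ⟨hN, hlt.le.trans hXU, h⟩ hlt.le)
  have hU : U ≤ X ⊔ V := by
    rcases hch.2.2.2 (X ⊔ V) inferInstance le_sup_right (sup_le hXU hch.1.le) with e | e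
    · exact absurd (le_sup_left.trans e.le) hXV
    · exact e.ge
  have hXne : X ≠ ⊥ := fun h => hXV (h ▸ bot_le)
  suffices hmain : iterCommutator X (zpowers g) (i + j - 1) ≤ V from
    ((iter_mono_left hU _).trans (iter_sup_le X V _ _)).trans (sup_le hmain le_rfl)
  have hXP : X ≤ P := hXU.trans hUP
  by_cases hXC : X ≤ centralizer (Q : Set G)
  · obtain ⟨M, hMn, hMX, hM, -⟩ := exists_maximal_normal_lt hXne
    exact ((iter_antitone X _ (by omega : j ≤ i + j - 1)).trans
      (hZj X M hM ((le_inf hXP hXC).trans hcent.le))).trans (hmin M hMn hMX)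
  obtain ⟨R, hR⟩ := (Set.toFinite
    {R : Subgroup G | R.Normal ∧ R ≤ Q ∧ ¬ ⁅X, R⁆ = ⊥}).exists_minimal ⟨Q, inferInstance, le_rfl,
      fun h => hXC (commutator_eq_bot_iff_le_centralizer.mp h)⟩
  obtain ⟨hRn, hRQ, hXR⟩ := hR.1
  have hRne : R ≠ ⊥ := fun h => hXR (by rw [h, commutator_bot_right])
  obtain ⟨R', hR'n, hR'R, hRch, -⟩ := exists_maximal_normal_lt hRne
  have hXR' : ⁅X, R'⁆ = ⊥ := by
    by_contra h
    exact hR'R.not_ge (hR.2 ⟨hR'n, hR'R.le.trans hRQ, h⟩ hR'R.le)
  set N' := ⁅X, R⁆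
  obtain ⟨N, hNn, hNN', hNch, -⟩ := exists_maximal_normal_lt (W := N') hXR
  have hN'Z : N' ≤ Q ⊓ centralizer (Q : Set G) := (commutator_mono hXP hRQ).trans hcomm
  have hN'P : N' ≤ P := hN'Z.trans (inf_le_left.trans hQP)
  have hNP : ⁅N', P⁆ ≤ N := by
    refine le_trans (commutator_mono le_rfl (Cfsg.Agent.PLocal.Cores.le_pCore hP)) ?_
    exact Cfsg.Agent.Techniques.Functor.chief_commutator_le hNch
      (hN'P.trans (Cfsg.Agent.PLocal.Cores.le_pCore hP))
  set H := zpowers g
  let I : ℕ → Subgroup G := iterCommutator X H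
  let Rb : ℕ → Subgroup G := fun b => iterCommutator R H b ⊔ R'
  let Na : ℕ → Subgroup G := fun a => iterCommutator N' H a ⊔ N
  have hNanti : Antitone Na := fun a b h => sup_le_sup_right (iter_antitone N' H h) N
  have hNstep : ∀ a, ⁅Na a, H⁆ ≤ Na (a + 1) := fun a => commutator_sup_normal_le _ _ _
  have hRstep : ∀ b, ⁅Rb b, H⁆ ≤ Rb (b + 1) := fun b => commutator_sup_normal_le _ _ _
  have hNa' : ∀ a, Na a ≤ N' := fun a => sup_le (iter_le N' H a) hNN'.le
  have hL : ∀ a, P ⊔ H ≤ normalizer ((Na a : Subgroup G) : Set G) := fun a => by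
    refine sup_le ?_ ?_
    · rw [le_normalizer_iff_commutator_le_left]
      exact ((commutator_mono (hNa' a) le_rfl).trans hNP).trans le_sup_right
    · intro x hx
      exact Cfsg.Agent.Techniques.Functor.mem_normalizer_sup (iter_normalized N' H a hx)
        (by rw [normalizer_eq_top]; exact mem_top x)
  have hzero : ∀ b, i ≤ b → ∀ W : Subgroup G, W ≤ X → ⁅W, Rb b⁆ = ⊥ := fun b hb W hW =>
    eq_bot_iff.mpr ((commutator_mono hW (sup_le ((iter_antitone R H hb).trans
      (hQi R R' hRch hRQ)) le_rfl)).trans hXR'.le)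
  have hIX : ∀ n, I n ≤ X := iter_le X H
  have hRbR : ∀ b, Rb b ≤ R := fun b => sup_le (iter_le R H b) hR'R.le
  have key : ∀ n b, ⁅I n, Rb b⁆ ≤ Na ((n + b) - (i - 1)) := by
    intro n
    induction n with
    | zero =>
      intro b
      rcases lt_or_ge b i with hb | hb
      · rw [show 0 + b - (i - 1) = 0 by omega]
        exact (commutator_mono (hIX 0) (hRbR b)).trans le_sup_left
      · rw [hzero b hb _ (hIX 0)]; exact bot_le
    | succ n ih =>
      intro b
      rcases lt_or_ge b i with hb | hb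
      swap
      · rw [hzero b hb _ (hIX _)]; exact bot_le
      set a := n + 1 + b - (i - 1)
      have hmod := three_subgroup_mod (A := I n) (B := H) (C := Rb b) (W := Na a) (L := P ⊔ H)
        (((hIX n).trans hXP).trans le_sup_left) le_sup_right
        (((hRbR b).trans (hRQ.trans hQP)).trans le_sup_left)
        (((hNa' a).trans hN'P).trans le_sup_left) (hL a)
      refine hmod ?_ ?_
      · rw [commutator_comm H, commutator_comm _ (I n)]
        refine (commutator_mono le_rfl (hRstep b)).trans ((ih (b + 1)).trans ?_)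
        exact hNanti (by omega)
      · rw [commutator_comm (Rb b) (I n)]
        exact ((commutator_mono (ih b) le_rfl).trans (hNstep _)).trans (hNanti (by omega))
  have hlast : ⁅I (i + j - 1), R⁆ ≤ N := by
    refine le_trans (commutator_mono le_rfl
      (le_sup_left : R ≤ Rb 0)) ((key (i + j - 1) 0).trans ?_)
    rw [show i + j - 1 + 0 - (i - 1) = j by omega]
    exact sup_le (hZj N' N hNch hN'Z) le_rfl
  let Ann : Subgroup G :=
    X ⊓ (centralizer ((R.map (QuotientGroup.mk' N) : Subgroup (G ⧸ N)) : Set (G ⧸ N))).comap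
      (QuotientGroup.mk' N)
  have hAnn : ∀ {W : Subgroup G}, W ≤ X → (W ≤ Ann ↔ ⁅W, R⁆ ≤ N) := fun {W} hW => by
    rw [le_inf_iff, ← map_le_iff_le_comap, ← commutator_eq_bot_iff_le_centralizer, ← map_commutator,
      Subgroup.map_eq_bot_iff, QuotientGroup.ker_mk']
    exact and_iff_right hW
  have : (R.map (QuotientGroup.mk' N)).Normal := Normal.map hRn _ (QuotientGroup.mk'_surjective N)
  have hlt : Ann < X := lt_of_le_of_ne inf_le_left fun h => hNN'.not_ge
    ((hAnn le_rfl).mp h.ge)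
  exact ((hAnn (hIX _)).mpr hlast).trans (hmin Ann inferInstance hlt)

end Cfsg.Agent.Techniques.KInf
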