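import Cfsg.Agent.Techniques.KInf.WeakClosure
import Cfsg.Agent.S1968
import Cfsg.Agent.Techniques.Functor.Semisimple

/-!
Weak closure of p-th powers of central elements from a quadratic action on centres of p-cores.
-/

set_option autoImplicit false

namespace Cfsg.Agent.Techniques.KInf

open Cfsg Subgroup Cfsg.Agent.Techniques.Functor Cfsg.Agent.Fusion.SylIn Cfsg.Agent.PLocal.Cores
open scoped commutatorElement

variable {G : Type*} [Group G] [Finite G] {p : ℕ} [Fact p.Prime] {W : Subgroup G → Subgroup G}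

omit [Finite G] [Fact p.Prime] in
theorem commute_conj {S0 : Set G} {n c : G} (hn : ∀ s ∈ S0, n⁻¹ * s * n ∈ S0)
    (hc : c ∈ centralizer S0) : n * c * n⁻¹ ∈ centralizer S0 := by
  rw [mem_centralizer_iff]
  intro s hs
  have h1 := mem_centralizer_iff.mp hc _ (hn s hs)
  calc s * (n * c * n⁻¹) = n * ((n⁻¹ * s * n) * c) * n⁻¹ := by group
    _ = n * (c * (n⁻¹ * s * n)) * n⁻¹ := by rw [h1]
    _ = n * c * n⁻¹ * s := by group

/-- The hypothesis of quadratic action on the centres of the p-cores. -/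
abbrev QuadCentre (p : ℕ) (W : Subgroup G → Subgroup G) : Prop :=
  ∀ (H T : Subgroup G), T ≤ H → IsPGroup p ↥T → ¬ p ∣ (T).relIndex (H) →
    ¬ H ≤ Subgroup.normalizer ((W T : Subgroup G) : Set G) →
    ∃ g : G, g ∈ T ∧ g ∉ pCoreOf p H ∧
      ⁅⁅pCoreOf p H ⊓ centralizer ((pCoreOf p H : Subgroup G) : Set G), zpowers g⁆, zpowers g⁆ = ⊥

theorem le_of_powers (hloc : QuadCentre p W) {K A : Subgroup G}
    (hAK : centralizer (A : Set G) ≤ K) :
    ∀ {L T : Subgroup G}, SylIn p T L →
      (∀ a ∈ A, ∃ z ∈ T ⊓ centralizer (T : Set G), z ^ p = a) → A ≤ pCoreOf p L →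
      L ⊓ normalizer (W T : Set G) ≤ K → L ≤ K := by
  intro L
  induction hn : Nat.card L using Nat.strongRecOn generalizing L with
  | ind n ih =>
  intro T hT hpow hAQ hN
  by_cases hnorm : L ≤ normalizer (W T : Set G)
  · exact (le_inf le_rfl hnorm).trans hN
  set Q := pCoreOf p L with hQdef
  obtain ⟨R, hR⟩ := exists_sylow_map hT
  have hQT : Q ≤ T := hR ▸ map_mono (pCore_le_sylow R)
  have hQL : Q ≤ L := map_subtype_le _
  have hQn : L ≤ normalizer (Q : Set G) := le_normalizer_map_pCore L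
  have hQp : IsPGroup p Q := isPGroup_pCore.map _
  -- proper subgroups over `T`
  have hproper : ∀ L1 : Subgroup G, T ≤ L1 → L1 < L → L1 ≤ K := by
    intro L1 hT1 hlt
    have hcard : Nat.card L1 < n := hn ▸ lt_of_not_ge fun hge =>
      hlt.ne (Subgroup.eq_of_le_of_card_ge hlt.le hge)
    exact ih _ hcard rfl (hT.mono hT1 hlt.le) hpow
      (hAQ.trans (pCoreOf_mono hlt.le (hQT.trans hT1))) ((inf_le_inf_right _ hlt.le).trans hN)
  -- an invariant set containing `A` with too large a centralizer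
  have hbig : ∀ S0 : Set G, (A : Set G) ⊆ S0 → (∀ l ∈ L, ∀ s ∈ S0, l⁻¹ * s * l ∈ S0) →
      ¬ T ⊓ (L ⊓ centralizer S0) ≤ Q → L ≤ K := by
    intro S0 hAS hS0 hne
    set C := L ⊓ centralizer S0 with hC
    have hCn : L ≤ normalizer (C : Set G) := by
      rw [le_normalizer_iff]
      exact fun l hl c hc =>
        mem_inf.mpr ⟨L.mul_mem (L.mul_mem hl hc.1) (L.inv_mem hl), commute_conj (hS0 l hl) hc.2⟩
    have hCK : C ≤ K := inf_le_right.trans ((centralizer_le hAS).trans hAK)
    set P := T ⊓ C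
    have hP : SylIn p P C := hT.inf_normal inf_le_left hCn
    set N := L ⊓ normalizer (P : Set G)
    have hNK : N ≤ K := by
      refine hproper N (le_inf hT.1 ?_) (lt_of_le_of_ne inf_le_left fun e => hne ?_)
      · intro t ht
        exact mem_normalizer_inf (le_normalizer ht) (hCn (hT.1 ht))
      · exact le_map_pCore_of_le_normalizer hP.2.1 (inf_le_left.trans hT.1)
          (e.ge.trans inf_le_right)
    intro l hl
    obtain ⟨c, hc, hle⟩ := exists_conj_le_of_not_dvd_relIndex hP.1 hP.2.1 hP.2.2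
      (hP.2.1.map (cnj l)) (map_cnj_le_iff.mpr fun x hx =>
        (mem_normalizer_iff.mp (hCn hl) x).mp (hP.1 hx))
    have hm : c * l ∈ normalizer (P : Set G) := by
      rw [← map_cnj_eq_self]
      refine Subgroup.eq_of_le_of_card_ge ?_ (card_map_cnj _ _).ge
      rw [← map_cnj_cnj]
      exact map_cnj_le_iff.mpr hle
    have := mul_mem (inv_mem (hCK hc)) (hNK ⟨mul_mem hc.1 hl, hm⟩)
    simpa using this
  by_cases h1 : T ⊓ (L ⊓ centralizer (Q : Set G)) ≤ Q
  swap
  · exact hbig (Q : Set G) hAQ (fun l hl s hs =>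
      (mem_normalizer_iff''.mp (hQn hl) s).mp hs) h1
  set V := Q ⊓ centralizer (Q : Set G) with hVdef
  have hzV : T ⊓ centralizer (T : Set G) ≤ V := fun z hz => by
    have hzC := centralizer_le (SetLike.coe_subset_coe.mpr hQT) hz.2
    exact ⟨h1 ⟨hz.1, hT.1 hz.1, hzC⟩, hzC⟩
  have hAV : A ≤ V := fun a ha => by
    obtain ⟨z, hz, rfl⟩ := hpow a ha
    exact pow_mem (hzV hz) p
  have hVn : ∀ l ∈ L, ∀ v ∈ V, l⁻¹ * v * l ∈ V := fun l hl v hv => by
    refine ⟨(mem_normalizer_iff''.mp (hQn hl) v).mp hv.1, ?_⟩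
    have := commute_conj (n := l⁻¹) (S0 := (Q : Set G)) (fun s hs => by
      rw [inv_inv]; exact (mem_normalizer_iff.mp (hQn hl) s).mp hs) hv.2
    simpa using this
  by_cases h2 : T ⊓ (L ⊓ centralizer (V : Set G)) ≤ Q
  swap
  · exact hbig (V : Set G) hAV hVn h2
  obtain ⟨g, hgT, hgQ, hquad⟩ := hloc L T hT.1 hT.2.1 hT.2.2 hnorm
  have hgC : g ∉ centralizer (V : Set G) := fun h => hgQ (h2 ⟨hgT, hT.1 hgT, h⟩)
  obtain ⟨m, hm⟩ := hT.2.1 ⟨g, hgT⟩
  have hex : ∃ k, g ^ p ^ k ∈ centralizer (V : Set G) := ⟨m, by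
    have := congrArg Subtype.val hm
    simp only [SubmonoidClass.coe_pow, OneMemClass.coe_one] at this
    rw [this]; exact one_mem _⟩
  classical
  obtain ⟨k, hk⟩ : ∃ k, Nat.find hex = k + 1 := Nat.exists_eq_succ_of_ne_zero fun h => hgC (by
    have := Nat.find_spec hex
    rwa [h, pow_zero, pow_one] at this)
  set g1 := g ^ p ^ k with hg1
  have hg1p : g1 ^ p ∈ centralizer (V : Set G) := by
    rw [hg1, ← pow_mul, ← pow_succ, ← hk]
    exact Nat.find_spec hex
  have hg1C : g1 ∉ centralizer (V : Set G) := Nat.find_min hex (by omega)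
  have hg1T : g1 ∈ T := pow_mem hgT _
  have hq1 : ⁅⁅V, zpowers g1⁆, zpowers g1⁆ = ⊥ := by
    have hle : zpowers g1 ≤ zpowers g := zpowers_le.mpr (pow_mem (mem_zpowers g) _)
    exact eq_bot_iff.mpr ((commutator_mono (commutator_mono le_rfl hle) hle).trans hquad.le)
  let S1 : Set G := (fun v => v ^ p) '' (V : Set G)
  refine hbig S1 (fun a ha => ?_) ?_ fun hle => hg1C ?_
  · obtain ⟨z, hz, rfl⟩ := hpow a ha
    exact ⟨z, hzV hz, rfl⟩
  · rintro l hl _ ⟨v, hv, rfl⟩
    refine ⟨l⁻¹ * v * l, hVn l hl v hv, ?_⟩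
    have h := conj_pow (a := l⁻¹) (b := v) (i := p)
    rw [inv_inv] at h
    exact h
  · have hg1S1 : g1 ∈ centralizer S1 := by
      rw [mem_centralizer_iff]
      rintro _ ⟨v, hv, rfl⟩
      set c := g1 * v * g1⁻¹ * v⁻¹ with hc
      have hcV : c ∈ V := by
        refine mul_mem ?_ (inv_mem hv)
        simpa using hVn g1⁻¹ (inv_mem (hT.1 hg1T)) v hv
      have hcm : c ∈ ⁅V, zpowers g1⁆ := by
        rw [commutator_comm]
        have := commutator_mem_commutator (mem_zpowers g1) hv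
        rwa [commutatorElement_def] at this
      have hcg : Commute g1 c := mem_centralizer_iff.mp
        (commutator_eq_bot_iff_le_centralizer.mp hq1 hcm) g1 (mem_zpowers g1)
      have h1' : g1 * v * g1⁻¹ = c * v := by rw [hc]; group
      have hiter : ∀ i : ℕ, g1 ^ i * v * (g1 ^ i)⁻¹ = c ^ i * v := by
        intro i
        induction i with
        | zero => simp
        | succ i ihi =>
          calc g1 ^ (i + 1) * v * (g1 ^ (i + 1))⁻¹ = g1 * (g1 ^ i * v * (g1 ^ i)⁻¹) * g1⁻¹ := by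
                rw [pow_succ']; group
            _ = (g1 * c ^ i * g1⁻¹) * (g1 * v * g1⁻¹) := by rw [ihi]; group
            _ = c ^ (i + 1) * v := by
                rw [(hcg.pow_right i).eq, mul_inv_cancel_right, h1', pow_succ]
                exact (mul_assoc _ _ _).symm
      have hcp : c ^ p = 1 := by
        have h3 := hiter p
        rwa [← mem_centralizer_iff.mp hg1p v hv, mul_inv_cancel_right, right_eq_mul] at h3
      have hcv : Commute c v := mem_centralizer_iff.mp hv.2 c hcV.1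
      have h4 : g1 * v ^ p * g1⁻¹ = v ^ p := by
        rw [← conj_pow, h1', hcv.mul_pow, hcp, one_mul]
      exact (mul_inv_eq_iff_eq_mul.mp h4).symm
    exact mem_centralizer_iff.mpr fun v hv => by
      have hmem := hle ⟨hg1T, hT.1 hg1T, hg1S1⟩
      exact (mem_centralizer_iff.mp hv.2 g1 hmem).symm

/-- Both conclusions on weak closure of powers of central elements. -/
theorem weaklyClosed_powers (S : Sylow p G) (hW : IsConjugacyFunctor p W)
    (hWZ : ∀ P : Subgroup G, IsPGroup p ↥P → P ⊓ centralizer (P : Set G) ≤ W P)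
    (hloc : QuadCentre p W) {A : Subgroup G}
    (hA : ∀ a ∈ A, ∃ z ∈ (S : Subgroup G) ⊓ centralizer ((S : Subgroup G) : Set G), z ^ p = a) :
    (normalizer (W (S : Subgroup G) : Set G) ≤ normalizer (A : Set G) →
      IsWeaklyClosed A (S : Subgroup G)) ∧
    ∀ x : G, A = zpowers x → normalizer (W (S : Subgroup G) : Set G) ≤ centralizer ({x} : Set G) →
      ∀ g : G, g * x * g⁻¹ ∈ (S : Subgroup G) → g * x * g⁻¹ = x := by
  have hAS : A ≤ (S : Subgroup G) ⊓ centralizer ((S : Subgroup G) : Set G) := fun a ha => by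
    obtain ⟨z, hz, rfl⟩ := hA a ha
    exact pow_mem hz p
  have key : ∀ {K T : Subgroup G}, centralizer (A : Set G) ≤ K → T ≤ (S : Subgroup G) → A ≤ T →
      SylIn p (nS (S : Subgroup G) T) (normalizer (T : Set G)) →
      normalizer (W (nS (S : Subgroup G) T) : Set G) ≤ K → normalizer (T : Set G) ≤ K := by
    intro K T hK hTS hAT hsyl hN
    refine le_of_powers hloc hK hsyl (fun a ha => ?_) ?_ (inf_le_right.trans hN)
    · obtain ⟨z, hz, hza⟩ := hA a ha
      refine ⟨z, ⟨⟨hz.1, centralizer_le_normalizer _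
        (centralizer_le (SetLike.coe_subset_coe.mpr hTS) hz.2)⟩,
        centralizer_le (SetLike.coe_subset_coe.mpr inf_le_left) hz.2⟩, hza⟩
    · exact hAT.trans (le_map_pCore_of_le_normalizer (S.2.to_le hTS) le_normalizer le_rfl)
  refine ⟨fun hN => ?_, fun x hx hN g hg => ?_⟩
  · by_contra hnwc
    obtain ⟨T, hwp, hAT, hNP, hsyl, -, g, hg, -, hne⟩ :=
      Cfsg.Agent.S1968.result S W hW hWZ A hAS hN hnwc
    exact hne (map_cnj_eq_self.mpr
      (key (centralizer_le_normalizer _) hwp.1 hAT (wellPlaced_sylIn S hwp) hNP hg))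
  · by_contra hne
    have hxA : x ∈ A := hx ▸ mem_zpowers x
    obtain ⟨T, hTS, hxT, hsyl, hNP, hnot⟩ := exists_bad_local S hW hWZ (hAS hxA).1
      ((le_normalizer.trans (normalizer_le_functor hW S.2)).trans hN) hN hg hne
    refine hnot (key ?_ hTS (hx ▸ zpowers_le.mpr hxT) hsyl hNP)
    exact centralizer_le (Set.singleton_subset_iff.mpr hxA)

end Cfsg.Agent.Techniques.KInf
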