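import Cfsg.Agent.Base.RecEqns
import Cfsg.Agent.Techniques.KSeq
import Cfsg.Agent.Techniques.KInf.Stabilizer
import Cfsg.Agent.Techniques.Functor.Semisimple

/-!
Elements acting with small degree on a critical subgroup when a K-infinity subgroup is not normal.
-/

set_option autoImplicit false

namespace Cfsg.Agent.Techniques.KInf

open Cfsg Subgroup Cfsg.Agent.Techniques.Functor
open scoped commutatorElement

variable {G : Type*} [Group G]

/-- The centre of a subgroup, inside the group. -/
abbrev zc (A : Subgroup G) : Subgroup G := A ⊓ centralizer (A : Set G)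

theorem zc_commutator_self (A : Subgroup G) : ⁅zc A, A⁆ = ⊥ :=
  commutator_eq_bot_iff_le_centralizer.mpr inf_le_right

theorem commutator_zc_eq_bot (B : Subgroup G) : ⁅zc B, B⁆ = ⊥ := zc_commutator_self B

/-- The element `g` acts with small degree on `A`, quadratically on some factor. -/
def Witness (p : ℕ) (A : Subgroup G) (g : G) : Prop :=
  g ∉ pCore p G ∧ iterCommutator A (zpowers g) 3 = ⊥ ∧
    ⁅⁅zc A, zpowers g⁆, zpowers g⁆ = ⊥ ∧
    (centralizer (pCore p G : Set G) ≤ pCore p G →
      ∃ U V : Subgroup G, IsChiefFactor U V ∧ U ≤ A ∧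
        ⁅⁅U, zpowers g⁆, zpowers g⁆ ≤ V ∧ ¬ ⁅U, zpowers g⁆ ≤ V)

/-- A normal subgroup with the properties of a critical subgroup of the p-core. -/
structure CriticalIn (p : ℕ) (A : Subgroup G) : Prop where
  le : A ≤ pCore p G
  normal : A.Normal
  comm : ⁅pCore p G, A⁆ ≤ zc A
  faithful : ∀ φ : MulAut ↥(pCore p G), (orderOf φ).Coprime p →
    (∀ a : ↥(pCore p G), (a : G) ∈ A → φ a = a) → φ = 1

variable {p : ℕ} {A : Subgroup G}

theorem CriticalIn.classTwo (h : CriticalIn p A) : ⁅A, A⁆ ≤ centralizer (A : Set G) :=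
  ((commutator_mono h.le le_rfl).trans h.comm).trans inf_le_right

theorem CriticalIn.zc_normal (h : CriticalIn p A) : (zc A).Normal := by
  have := h.normal
  infer_instance

variable [Finite G] [Fact p.Prime]

theorem CriticalIn.isPGroup (h : CriticalIn p A) : IsPGroup p A :=
  Cfsg.Agent.PLocal.Cores.isPGroup_pCore.to_le h.le

theorem CriticalIn.stabilizes_le (h : CriticalIn p A)
    (hC : centralizer (pCore p G : Set G) ≤ pCore p G) : stabilizes A ≤ pCore p G := by
  have := h.normal
  refine Cfsg.Agent.PLocal.Cores.le_pCore ?_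
  rintro ⟨x, hx⟩
  obtain ⟨k, hk⟩ := exists_pow_coprime (p := p) x
  have hxs : x ^ p ^ k ∈ stabilizes A := pow_mem hx _
  have hcA := mem_centralizer_of_stabilizes h.isPGroup hxs hk
  have : (pCore p G).Normal := Cfsg.Agent.PLocal.Cores.pCore_normal'
  have hφ : (MulAut.conjNormal (x ^ p ^ k) : MulAut ↥(pCore p G)) = 1 := by
    refine h.faithful _ (Nat.Coprime.coprime_dvd_left (orderOf_map_dvd _ _) hk) fun a ha => ?_
    refine Subtype.ext ?_
    rw [MulAut.conjNormal_apply, mul_inv_eq_iff_eq_mul]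
    exact (mem_centralizer_iff.mp hcA a ha).symm
  have hxT : x ^ p ^ k ∈ pCore p G := hC (mem_centralizer_iff.mpr fun t ht => by
    have h1 := congrArg Subtype.val (DFunLike.congr_fun hφ ⟨t, ht⟩)
    rw [MulAut.conjNormal_apply, MulAut.one_apply] at h1
    exact (mul_inv_eq_iff_eq_mul.mp h1).symm)
  obtain ⟨j, hj⟩ := Cfsg.Agent.PLocal.Cores.isPGroup_pCore (p := p) (G := G) ⟨_, hxT⟩
  refine ⟨k + j, Subtype.ext ?_⟩
  have h2 := congrArg Subtype.val hj
  simp only [SubmonoidClass.coe_pow, OneMemClass.coe_one] at h2 ⊢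
  rw [pow_add, pow_mul]
  exact h2

theorem witness_of_quadratic (h : CriticalIn p A) {g : G} (hg : g ∉ pCore p G)
    (h3 : iterCommutator A (zpowers g) 3 = ⊥)
    (hZ : ⁅⁅zc A, zpowers g⁆, zpowers g⁆ = ⊥)
    (hq : ∀ U V : Subgroup G, IsChiefFactor U V → U ≤ A → ⁅⁅U, zpowers g⁆, zpowers g⁆ ≤ V) :
    Witness p A g := by
  refine ⟨hg, h3, hZ, fun hC => ?_⟩
  obtain ⟨U, V, hch, hU, hne⟩ := not_stabilizes fun hs => hg (h.stabilizes_le hC hs)
  exact ⟨U, V, hch, hU, hq U V hch hU, hne⟩

omit [Finite G] [Fact p.Prime] in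
theorem commutator_congr {Y : Subgroup G} [Y.Normal] {s t b : G}
    (hst : (QuotientGroup.mk' Y) s = QuotientGroup.mk' Y t) :
    QuotientGroup.mk' Y ⁅s, b⁆ = QuotientGroup.mk' Y ⁅t, b⁆ := by
  rw [map_commutatorElement, map_commutatorElement, hst]

omit [Finite G] [Fact p.Prime] in
theorem commutator_mul_quot {X Y : Subgroup G} [X.Normal] [Y.Normal] (hab : ⁅X, X⁆ ≤ Y) {s t : G}
    (hs : s ∈ X) (ht : t ∈ X) (b : G) :
    QuotientGroup.mk' Y ⁅s * t, b⁆ = QuotientGroup.mk' Y (⁅t, b⁆ * ⁅s, b⁆) := by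
  have htb : ⁅t, b⁆ ∈ X := by
    rw [commutatorElement_def, mul_assoc, mul_assoc, ← mul_assoc b]
    exact mul_mem ht (Normal.conj_mem inferInstance _ (inv_mem ht) b)
  have hc : Commute (QuotientGroup.mk' Y s) (QuotientGroup.mk' Y ⁅t, b⁆) := by
    rw [← commutatorElement_eq_one_iff_commute, ← map_commutatorElement, QuotientGroup.mk'_apply,
      QuotientGroup.eq_one_iff]
    exact hab (commutator_mem_commutator hs htb)
  have e : ⁅s * t, b⁆ = s * ⁅t, b⁆ * s⁻¹ * ⁅s, b⁆ := by simp only [commutatorElement_def]; group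
  rw [e, map_mul, map_mul, map_mul, map_mul, map_inv, hc.eq, mul_inv_cancel_right]

/-- A subgroup of the lower-star family outside the p-core. -/
theorem exists_witness_lower (h : CriticalIn p A) {R B : Subgroup G} (hB : B ∈ kLowerStarFamily R)
    (hAR : A ≤ R) (hBT : ¬ B ≤ pCore p G) : ∃ g ∈ B, Witness p A g := by
  have hAn := h.normal
  have hZn := h.zc_normal
  have hTn : (pCore p G).Normal := Cfsg.Agent.PLocal.Cores.pCore_normal'
  have hAB : ⁅A, B⁆ ≤ B := by
    rw [← le_normalizer_iff_commutator_le_right]; exact hAR.trans hB.2.1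
  by_cases hZB : zc B ≤ pCore p G
  swap
  · -- the centre of `B` is outside the core
    obtain ⟨g, hg, hgT⟩ := SetLike.not_le_iff_exists.mp hZB
    have hgz : zpowers g ≤ zc B := zpowers_le.mpr hg
    have h1 : ⁅A, zpowers g⁆ ≤ zc B := by
      refine (commutator_mono le_rfl hgz).trans (commutator_le.mpr fun a ha z hz => ?_)
      have han : a ∈ normalizer ((zc B : Subgroup G) : Set G) := by
        have hn : a ∈ normalizer (B : Set G) := hB.2.1 (hAR ha)
        refine mem_normalizer_inf hn ?_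
        rw [← map_cnj_eq_self] at hn ⊢
        rw [show cnj a = (MulAut.conj a).toMonoidHom from rfl] at hn ⊢
        refine le_antisymm ?_ ?_
        · rintro _ ⟨c, hc, rfl⟩
          rw [SetLike.mem_coe, mem_centralizer_iff] at hc
          rw [mem_centralizer_iff]
          intro b hb
          rw [← hn] at hb
          obtain ⟨b', hb', rfl⟩ := hb
          rw [← map_mul, hc b' hb', map_mul]
        · intro c hc
          rw [mem_centralizer_iff] at hc
          refine ⟨(MulAut.conj a).symm c, mem_centralizer_iff.mpr fun b hb => ?_,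
            (MulAut.conj a).apply_symm_apply c⟩
          apply (MulAut.conj a).injective
          rw [map_mul, map_mul, MulEquiv.apply_symm_apply]
          exact hc _ (hn ▸ mem_map_of_mem _ hb)
      rw [commutatorElement_def]
      exact mul_mem ((mem_normalizer_iff.mp han z).mp hz) (inv_mem hz)
    have h2 : ⁅⁅A, zpowers g⁆, zpowers g⁆ = ⊥ :=
      eq_bot_iff.mpr ((commutator_mono h1 (hgz.trans inf_le_left)).trans
        (commutator_zc_eq_bot B).le)
    refine ⟨g, hg.1, witness_of_quadratic h hgT ?_ ?_ fun U V _ hU => ?_⟩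
    · change ⁅⁅⁅A, zpowers g⁆, zpowers g⁆, zpowers g⁆ = _
      rw [h2, commutator_bot_left]
    · exact eq_bot_iff.mpr ((commutator_mono (commutator_mono inf_le_left le_rfl) le_rfl).trans h2.le)
    · exact ((commutator_mono (commutator_mono hU le_rfl) le_rfl).trans h2.le).trans bot_le
  -- the centre of `B` is in the core
  have hTA : ∀ {W : Subgroup G}, W ≤ pCore p G → ⁅W, A⁆ ≤ zc A := fun hW =>
    (commutator_mono hW le_rfl).trans h.comm
  have hBZ : ⁅B, zc A⁆ ≤ zc B := by
    refine hB.2.2 (zc A) ?_ (inf_le_left.trans hAR) ?_ ?_ ?_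
    · exact (commutator_le_self _).trans (le_centralizer_iff_isMulCommutative.mpr
        (le_centralizer_iff_isMulCommutative.mp (inf_le_right.trans
          (centralizer_le (SetLike.coe_subset_coe.mpr inf_le_left)))))
    · rw [normalizer_eq_top]; exact le_top
    · rw [eq_bot_iff]
      refine (commutator_mono le_rfl ((commutator_mono le_rfl inf_le_left).trans
        (zc_commutator_self A).le)).trans ?_
      rw [commutator_bot_right]
    · refine eq_bot_iff.mpr ((commutator_mono
        ((commutator_mono le_rfl inf_le_left).trans (hTA hZB)) inf_le_left).trans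
        (zc_commutator_self A).le)
  have hb2 : ∀ g ∈ B, ⁅⁅zc A, zpowers g⁆, zpowers g⁆ = ⊥ := fun g hg => by
    refine eq_bot_iff.mpr ((commutator_mono ?_ (zpowers_le.mpr hg)).trans
      (commutator_zc_eq_bot B).le)
    rw [commutator_comm]
    exact (commutator_mono (zpowers_le.mpr hg) le_rfl).trans hBZ
  have hb3 : ∀ g ∈ B, iterCommutator A (zpowers g) 3 = ⊥ := fun g hg => by
    have hgB : zpowers g ≤ B := zpowers_le.mpr hg
    change ⁅⁅⁅A, zpowers g⁆, zpowers g⁆, zpowers g⁆ = _
    rw [eq_bot_iff]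
    refine le_trans (commutator_mono (commutator_mono ((commutator_mono le_rfl hgB).trans hAB)
      hgB) hgB) ?_
    rw [commutator_eq_bot_iff_le_centralizer.mpr hB.1]
  by_cases hBs : B ≤ stabilizes (zc A)
  swap
  · -- some element is nontrivial on a factor in the centre of `A`
    obtain ⟨g, hg, hgs⟩ := SetLike.not_le_iff_exists.mp hBs
    obtain ⟨U, V, hch, hU, hne⟩ := not_stabilizes hgs
    refine ⟨g, hg, fun hgT => hne ?_, hb3 g hg, hb2 g hg, fun _ => ⟨U, V, hch,
      hU.trans inf_le_left, ?_, hne⟩⟩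
    · exact (commutator_mono le_rfl (zpowers_le.mpr hgT)).trans
        (chief_commutator_le hch (hU.trans (inf_le_left.trans h.le)))
    · exact ((commutator_mono (commutator_mono hU le_rfl) le_rfl).trans (hb2 g hg).le).trans bot_le
  -- `B` is subnormal modulo the centralizer of the centre of `A`
  obtain ⟨g, hg, hgT⟩ := SetLike.not_le_iff_exists.mp hBT
  refine ⟨g, hg, witness_of_quadratic h hgT (hb3 g hg) (hb2 g hg) fun U V hch hU => ?_⟩
  suffices hq : ⁅⁅U, B⁆, B⁆ ≤ V from
    (commutator_mono (commutator_mono le_rfl (zpowers_le.mpr hg)) (zpowers_le.mpr hg)).trans hq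
  have hUn := hch.2.1
  have hVn := hch.2.2.1
  have hab : ⁅U, U⁆ ≤ V :=
    (commutator_mono le_rfl (hU.trans h.le)).trans (chief_commutator_le hch (hU.trans h.le))
  set K := centralizer ((zc A : Subgroup G) : Set G) with hKdef
  have hKK1 : K ≤ stabilizes (zc A) := fun x hx => mem_stabilizes.mpr fun U' V' _ hU' u hu => by
    rw [commutatorElement_eq_one_iff_mul_comm.mpr (mem_centralizer_iff.mp hx u (hU' hu)).symm]
    exact one_mem _
  have hKn : K.Normal := inferInstance
  have hcompl : ∀ n, ∀ H : Subgroup G, Nat.card G - Nat.card H = n → K ≤ H →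
      H ≤ stabilizes (zc A) → Complemented U V H := by
    intro n
    induction n using Nat.strongRecOn with
    | ind n ih =>
      intro H hn hKH hH1
      rcases hH1.eq_or_lt with e | e
      · refine complemented_of_normal hch.1.le hab le_top ?_ (complemented_top hch)
        rw [e, normalizer_eq_top]
      · set π := QuotientGroup.mk' K
        have hker : π.ker = K := QuotientGroup.ker_mk' K
        have hHc : (H.map π).comap π = H := comap_map_eq_self (by rw [hker]; exact hKH)
        have h1c : ((stabilizes (zc A)).map π).comap π = stabilizes (zc A) :=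
          comap_map_eq_self (by rw [hker]; exact hKK1)
        have hlt : H.map π < (stabilizes (zc A)).map π := by
          refine lt_of_le_of_ne (map_mono hH1) fun h0 => e.ne ?_
          rw [← hHc, h0, h1c]
        have hlt2 := lt_nS (isPGroup_map_stabilizes (h.isPGroup.to_le inf_le_left)) hlt
        set L := (nS ((stabilizes (zc A)).map π) (H.map π)).comap π with hL
        have hHL : H < L := by
          conv_lhs => rw [← hHc]
          exact (comap_lt_comap_of_surjective (QuotientGroup.mk'_surjective K)).mpr hlt2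
        have hL1 : L ≤ stabilizes (zc A) := by
          rw [← h1c]; exact comap_mono inf_le_left
        have hLN : L ≤ normalizer (H : Set G) := by
          refine (comap_mono inf_le_right).trans ?_
          conv_rhs => rw [← hHc]
          exact le_normalizer_comap π
        have hcard : Nat.card H < Nat.card L := lt_of_not_ge fun hge =>
          hHL.ne (Subgroup.eq_of_le_of_card_ge hHL.le hge)
        have hLG : Nat.card L ≤ Nat.card G := Subgroup.card_le_card_group L
        exact complemented_of_normal hch.1.le hab hHL.le hLN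
          (ih _ (by omega) L rfl (hKH.trans hHL.le) hL1)
  have hC := hcompl _ (B ⊔ K) rfl le_sup_right (sup_le hBs hKK1)
  -- the elements whose commutators with `A` are fixed by `B`
  let V0 : Subgroup G :=
    { carrier := {v | v ∈ U ∧ ∀ a ∈ A, ⁅v, a⁆ ∈ centralizer (B : Set G)}
      one_mem' := ⟨one_mem _, fun a _ => by rw [commutatorElement_one_left]; exact one_mem _⟩
      mul_mem' := by
        rintro v w ⟨hv, hv'⟩ ⟨hw, hw'⟩
        refine ⟨mul_mem hv hw, fun a ha => ?_⟩
        have hz : ⁅w, a⁆ ∈ zc A := h.comm (commutator_mem_commutator (h.le (hU hw)) ha)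
        have e : ⁅v * w, a⁆ = v * ⁅w, a⁆ * v⁻¹ * ⁅v, a⁆ := by
          simp only [commutatorElement_def]; group
        rw [e, mem_centralizer_iff.mp hz.2 v (hU hv), mul_inv_cancel_right]
        exact mul_mem (hw' a ha) (hv' a ha)
      inv_mem' := by
        rintro v ⟨hv, hv'⟩
        refine ⟨inv_mem hv, fun a ha => ?_⟩
        have hz : ⁅v, a⁆ ∈ zc A := h.comm (commutator_mem_commutator (h.le (hU hv)) ha)
        have e : ⁅v⁻¹, a⁆ = v⁻¹ * ⁅v, a⁆⁻¹ * v := by simp only [commutatorElement_def]; group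
        rw [e, mem_centralizer_iff.mp (inv_mem hz).2 v⁻¹ (inv_mem (hU hv)), inv_mul_cancel_right]
        exact inv_mem (hv' a ha) }
  have hV0U : V0 ≤ U := fun v hv => hv.1
  have hV0A : V0 ≤ A := hV0U.trans hU
  have hV0B : B ≤ normalizer (V0 : Set G) := by
    rw [le_normalizer_iff]
    rintro b hb v ⟨hv, hv'⟩
    refine ⟨hUn.conj_mem v hv b, fun a ha => ?_⟩
    have h1 := hv' (b⁻¹ * a * b) (by simpa using hAn.conj_mem a ha b⁻¹)
    have e : ⁅b * v * b⁻¹, a⁆ = b * ⁅v, b⁻¹ * a * b⁆ * b⁻¹ := by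
      simp only [commutatorElement_def]; group
    rw [e, mem_centralizer_iff.mp h1 b hb, mul_inv_cancel_right]
    exact h1
  have hV0K : K ≤ normalizer (V0 : Set G) := by
    rw [le_normalizer_iff]
    rintro k hk v ⟨hv, hv'⟩
    refine ⟨hUn.conj_mem v hv k, fun a ha => ?_⟩
    have ha' : k⁻¹ * a * k ∈ A := by simpa using hAn.conj_mem a ha k⁻¹
    have h1 : ⁅v, k⁻¹ * a * k⁆ ∈ zc A := h.comm (commutator_mem_commutator (h.le (hU hv)) ha')
    have e : ⁅k * v * k⁻¹, a⁆ = k * ⁅v, k⁻¹ * a * k⁆ * k⁻¹ := by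
      simp only [commutatorElement_def]; group
    rw [e, ← mem_centralizer_iff.mp hk _ h1, mul_inv_cancel_right]
    exact hv' _ ha'
  have hV0Z : ⁅B, V0⁆ ≤ zc B := by
    have hVV : ⁅V0, V0⁆ ≤ zc A := (commutator_mono le_rfl hV0A).trans (hTA (hV0A.trans h.le))
    refine hB.2.2 V0 (hVV.trans (inf_le_right.trans (centralizer_le
      (SetLike.coe_subset_coe.mpr hV0A)))) (hV0A.trans hAR) hV0B ?_ ?_
    · rw [commutator_comm, commutator_eq_bot_iff_le_centralizer]
      exact commutator_le.mpr fun v hv w hw => hv.2 w (hV0A hw)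
    · refine eq_bot_iff.mpr ((commutator_mono
        ((commutator_mono le_rfl hV0A).trans (hTA hZB)) hV0A).trans (zc_commutator_self A).le)
  obtain ⟨U1, hU1, hU1V, hU1U⟩ := hC (V0 ⊔ V) ⟨le_sup_right, sup_le hV0U hch.1.le,
    fun x hx => mem_normalizer_sup ((sup_le hV0B hV0K) hx)
      (by rw [normalizer_eq_top]; exact mem_top x)⟩
  have hUU1 : U ≤ normalizer (U1 : Set G) :=
    le_normalizer_iff_commutator_le_left.mpr
      (((commutator_mono hU1.le_right le_rfl).trans hab).trans hU1.le_left)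
  have key : ∀ x ∈ U, ∀ b ∈ B, ∀ b' ∈ B, ⁅⁅x, b⁆, b'⁆ ∈ V := by
    intro x hx b hb b' hb'
    have hcomU : ∀ s ∈ U, ∀ c : G, ⁅s, c⁆ ∈ U := fun s hs c => by
      rw [commutatorElement_def, mul_assoc, mul_assoc, ← mul_assoc c]
      exact mul_mem hs (hUn.conj_mem _ (inv_mem hs) c)
    have hcom1 : ∀ s ∈ U1, ∀ c ∈ B, ⁅s, c⁆ ∈ U1 := fun s hs c hc => by
      rw [commutatorElement_def, mul_assoc, mul_assoc, ← mul_assoc c]
      exact mul_mem hs ((mem_normalizer_iff.mp (hU1.norm (mem_sup_left hc)) _).mp (inv_mem hs))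
    -- double commutators lie in `V0`
    have hw0 : ⁅⁅x, b⁆, b'⁆ ∈ V0 := by
      have h1 : ⁅x, b⁆ ∈ B := hAB (commutator_mem_commutator (hU hx) hb)
      have h2 : ⁅⁅x, b⁆, b'⁆ ∈ centralizer (B : Set G) :=
        hB.1 (commutator_mem_commutator h1 hb')
      refine ⟨hcomU _ (hcomU x hx b) b', fun a ha => mem_centralizer_iff.mpr fun c hc => ?_⟩
      set w := ⁅⁅x, b⁆, b'⁆
      have hwA : w ∈ A := hU (hcomU _ (hcomU x hx b) b')
      have hz : ⁅w, a⁆ ∈ zc A := h.comm (commutator_mem_commutator (h.le hwA) ha)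
      have hcB : ⁅a, c⁆ ∈ B := hAB (commutator_mem_commutator ha hc)
      have hcA : ⁅a, c⁆ ∈ A := by
        rw [commutatorElement_def, mul_assoc, mul_assoc, ← mul_assoc c]
        exact mul_mem ha (hAn.conj_mem _ (inv_mem ha) c)
      have hwc : Commute c w := mem_centralizer_iff.mp h2 c hc
      have e1 : c * ⁅w, a⁆ * c⁻¹ = ⁅w, a⁆ := by
        calc c * ⁅w, a⁆ * c⁻¹ = ⁅c * w * c⁻¹, c * a * c⁻¹⁆ := by
              simp only [commutatorElement_def]; group
          _ = ⁅w, ⁅a, c⁆⁻¹ * a⁆ := by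
              rw [hwc.eq, mul_inv_cancel_right]
              congr 1
              simp only [commutatorElement_def]; group
          _ = ⁅w, ⁅a, c⁆⁻¹⁆ * (⁅a, c⁆⁻¹ * ⁅w, a⁆ * (⁅a, c⁆⁻¹)⁻¹) := by
              simp only [commutatorElement_def]; group
          _ = ⁅w, a⁆ := by
              rw [commutatorElement_eq_one_iff_mul_comm.mpr
                (mem_centralizer_iff.mp h2 _ (inv_mem hcB)).symm, one_mul,
                mem_centralizer_iff.mp hz.2 _ (inv_mem hcA), mul_inv_cancel_right]
      exact (mul_inv_eq_iff_eq_mul.mp e1)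
    obtain ⟨u, hu, v, hv, rfl⟩ : ∃ u ∈ U1, ∃ v ∈ V0, u * v = x := by
      have hxm : x ∈ U1 ⊔ V0 := by
        have hle : U ≤ U1 ⊔ V0 :=
          hU1U.ge.trans (sup_le le_sup_left (sup_le le_sup_right (hU1.le_left.trans le_sup_left)))
        exact hle hx
      rw [← SetLike.mem_coe, coe_mul_of_right_le_normalizer_left U1 V0 (hV0U.trans hUU1)] at hxm
      obtain ⟨u, hu, v, hv, rfl⟩ := hxm
      exact ⟨u, hu, v, hv, rfl⟩
    have huU : u ∈ U := hU1.le_right hu
    have hvU : v ∈ U := hV0U hv
    have hvv : ⁅⁅v, b⁆, b'⁆ = 1 := by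
      have h1 : ⁅b, v⁆ ∈ zc B := hV0Z (commutator_mem_commutator hb hv)
      rw [commutatorElement_eq_one_iff_mul_comm, ← commutatorElement_inv b v]
      exact (mem_centralizer_iff.mp (inv_mem h1).2 b' hb').symm
    have e : QuotientGroup.mk' V ⁅⁅u * v, b⁆, b'⁆ = QuotientGroup.mk' V ⁅⁅u, b⁆, b'⁆ := by
      rw [commutator_congr (commutator_mul_quot hab huU hvU b),
        commutator_mul_quot hab (hcomU v hvU b) (hcomU u huU b) b', hvv, mul_one]
    have h1 := QuotientGroup.eq.mp (by simpa only [QuotientGroup.mk'_apply] using e)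
    have hw1 : ⁅⁅u, b⁆, b'⁆ ∈ U1 := hcom1 _ (hcom1 u hu b hb) b' hb'
    have hw2 : ⁅⁅u, b⁆, b'⁆ ∈ V := by
      rw [← hU1V]
      refine mem_inf.mpr ⟨hw1, ?_⟩
      have := mul_mem (mem_sup_left (T := V) hw0) (mem_sup_right (S := V0) h1)
      rwa [mul_inv_cancel_left] at this
    have := mul_mem hw2 (inv_mem h1)
    rwa [mul_inv_rev, inv_inv, ← mul_assoc, mul_inv_cancel, one_mul] at this
  rw [commutator_le]
  intro c hc b' hb'
  have hle : ⁅U, B⁆ ≤
      (centralizer ((B.map (QuotientGroup.mk' V) : Subgroup (G ⧸ V)) : Set (G ⧸ V))).comap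
        (QuotientGroup.mk' V) := by
    rw [commutator_le]
    intro x hx b hb
    refine mem_centralizer_iff.mpr ?_
    rintro _ ⟨b'', hb'', rfl⟩
    have h1 : QuotientGroup.mk' V ⁅⁅x, b⁆, b''⁆ = 1 := (QuotientGroup.eq_one_iff _).mpr
      (key x hx b hb b'' hb'')
    rw [map_commutatorElement, commutatorElement_eq_one_iff_mul_comm] at h1
    exact h1.symm
  rw [← QuotientGroup.eq_one_iff, ← QuotientGroup.mk'_apply, map_commutatorElement,
    commutatorElement_eq_one_iff_mul_comm]
  exact (mem_centralizer_iff.mp (hle hc) _ (mem_map_of_mem _ hb')).symm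

end Cfsg.Agent.Techniques.KInf
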