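import Cfsg.Agent.Base.RecEqns
import Cfsg.Agent.Techniques.KInf.Quadratic

/-!
If a K-infinity subgroup of a Sylow p-subgroup is not normal, some element outside the p-core
acts with small degree on a critical subgroup.
-/

set_option autoImplicit false

namespace Cfsg.Agent.Techniques.KInf

open Cfsg Subgroup Cfsg.Agent.Techniques.Functor Cfsg.Agent.Techniques.KSeq
open scoped commutatorElement

universe u

variable {G : Type u} [Group G] [Finite G] {p : ℕ} [Fact p.Prime] {A : Subgroup G}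

theorem exists_witness_upper (h : CriticalIn p A) {E B : Subgroup G} (hB : B ∈ kUpperStarFamily E)
    (hAE : A ≤ E) (hBT : ¬ B ≤ pCore p G) : ∃ g ∈ B, Witness p A g := by
  obtain ⟨g, hg, hgT⟩ := SetLike.not_le_iff_exists.mp hBT
  have hgB : zpowers g ≤ B := zpowers_le.mpr hg
  have h1 : ⁅A, zpowers g⁆ ≤ zc B := by
    rw [commutator_comm]
    exact (commutator_mono hgB hAE).trans hB.2
  have h2 : ⁅⁅A, zpowers g⁆, zpowers g⁆ = ⊥ :=
    eq_bot_iff.mpr ((commutator_mono h1 hgB).trans (commutator_zc_eq_bot B).le)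
  refine ⟨g, hg, witness_of_quadratic h hgT ?_ ?_ fun U V _ hU => ?_⟩
  · change ⁅⁅⁅A, zpowers g⁆, zpowers g⁆, zpowers g⁆ = _
    rw [h2, commutator_bot_left]
  · exact eq_bot_iff.mpr ((commutator_mono (commutator_mono inf_le_left le_rfl) le_rfl).trans h2.le)
  · exact ((commutator_mono (commutator_mono hU le_rfl) le_rfl).trans h2.le).trans bot_le

theorem exists_witness_first (h : CriticalIn p A) {B : Subgroup G} (hB : B ∈ classTwoSubgroups G)
    (hN : A ≤ normalizer (B : Set G)) (h1 : ⁅A, ⁅B, B⁆⁆ = ⊥)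
    (h2 : ⁅⁅zc A, B⁆, B⁆ = ⊥) (hne : ¬ ⁅A, B⁆ ≤ zc A) : ∃ g ∈ B, Witness p A g := by
  have hAn := h.normal
  have hBT : ¬ B ≤ pCore p G := fun hle => hne (by
    rw [commutator_comm]; exact (commutator_mono hle le_rfl).trans h.comm)
  obtain ⟨g, hg, hgT⟩ := SetLike.not_le_iff_exists.mp hBT
  have hgB : zpowers g ≤ B := zpowers_le.mpr hg
  have hA : ∀ W : Subgroup G, W ≤ A → ⁅W, zpowers g⁆ ≤ A := fun W hW =>
    (commutator_mono hW le_rfl).trans (commutator_le_left A _)
  have hA2B : ⁅⁅A, zpowers g⁆, zpowers g⁆ ≤ ⁅B, B⁆ :=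
    commutator_mono ((commutator_mono le_rfl hgB).trans
      (le_normalizer_iff_commutator_le_right.mp hN)) hgB
  have hA2 : ⁅⁅A, zpowers g⁆, zpowers g⁆ ≤ zc A := by
    refine le_inf (hA _ (hA A le_rfl)) (hA2B.trans ?_)
    rw [← commutator_eq_bot_iff_le_centralizer, commutator_comm]
    exact h1
  have hZ : ⁅⁅zc A, zpowers g⁆, zpowers g⁆ = ⊥ :=
    eq_bot_iff.mpr ((commutator_mono (commutator_mono le_rfl hgB) hgB).trans h2.le)
  refine ⟨g, hg, witness_of_quadratic h hgT ?_ hZ fun U V hch hU => ?_⟩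
  · change ⁅⁅⁅A, zpowers g⁆, zpowers g⁆, zpowers g⁆ = _
    refine eq_bot_iff.mpr ((commutator_mono hA2B hgB).trans ?_)
    rw [commutator_eq_bot_iff_le_centralizer.mpr hB]
  · have := hch.2.1
    have := hch.2.2.1
    have := h.zc_normal
    rcases hch.2.2.2 ((U ⊓ zc A) ⊔ V) inferInstance le_sup_right
      (sup_le inf_le_left hch.1.le) with e | e
    · refine le_trans (le_inf ?_ ((commutator_mono (commutator_mono hU le_rfl) le_rfl).trans hA2))
        (le_sup_left.trans e.le)
      exact (commutator_mono (commutator_le_left U _) le_rfl).trans (commutator_le_left U _)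
    · have hm : U.map (QuotientGroup.mk' V) = (U ⊓ zc A).map (QuotientGroup.mk' V) := by
        conv_lhs => rw [← e]
        rw [Subgroup.map_sup, QuotientGroup.map_mk'_self, sup_bot_eq]
      have h3 : (⁅⁅U, zpowers g⁆, zpowers g⁆).map (QuotientGroup.mk' V) = ⊥ := by
        rw [map_commutator, map_commutator, hm, ← map_commutator, ← map_commutator]
        rw [eq_bot_iff.mpr ((commutator_mono (commutator_mono inf_le_right le_rfl) le_rfl).trans
          hZ.le), Subgroup.map_bot]
      rwa [Subgroup.map_eq_bot_iff, QuotientGroup.ker_mk'] at h3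

/-- A characteristic subgroup of the p-core is normal. -/
theorem normal_of_char {A : Subgroup G} (hA : A ≤ pCore p G)
    (hc : (A.subgroupOf (pCore p G)).Characteristic) : A.Normal := by
  have : (pCore p G).Normal := Cfsg.Agent.PLocal.Cores.pCore_normal'
  have h : ((A.subgroupOf (pCore p G)).map (pCore p G).subtype).Normal := inferInstance
  rwa [subgroupOf_map_subtype, inf_eq_left.mpr hA] at h

/-- The main lemma on K-infinity subgroups. -/
theorem exists_witness (S : Sylow p G) (h : CriticalIn p A)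
    (hK : ¬ (inducedFunctor kInfLower (S : Subgroup G)).Normal ∨
      ¬ (inducedFunctor kInfUpper (S : Subgroup G)).Normal) :
    ∃ g ∈ (S : Subgroup G), Witness p A g := by
  classical
  set T := pCore p G
  have hTS : T ≤ (S : Subgroup G) := Cfsg.Agent.PLocal.Cores.pCore_le_sylow S
  have : T.Normal := Cfsg.Agent.PLocal.Cores.pCore_normal'
  set T' := T.subgroupOf (S : Subgroup G) with hT'
  set f := (S : Subgroup G).subtype
  have hf : Function.Injective f := (S : Subgroup G).subtype_injective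
  have hT'f : T'.map f = T := map_subgroupOf_eq_of_le hTS
  have hle : ∀ X : Subgroup ↥(S : Subgroup G), X ≤ T' ↔ X.map f ≤ T := fun X =>
    map_le_iff_le_comap.symm
  have hsub : ∀ X : Subgroup ↥(S : Subgroup G), X.map f ≤ (S : Subgroup G) := map_subtype_le
  have hAS : A ≤ (S : Subgroup G) := h.le.trans hTS
  set A' := A.subgroupOf (S : Subgroup G)
  have hA'f : A'.map f = A := map_subgroupOf_eq_of_le hAS
  -- a failing index exists
  obtain hall | hex := em (∀ n, kSeqEven ↥(S : Subgroup G) n ≤ T' ∧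
      kSeqOdd ↥(S : Subgroup G) (n + 1) ≤ T')
  · exfalso
    have key := kInf_map_eq (f := Subgroup.inclusion hTS) (Subgroup.inclusion_injective hTS)
      fun n => ⟨fun x hx => ⟨⟨x, (hall n).1 hx⟩, rfl⟩, fun x hx => ⟨⟨x, (hall n).2 hx⟩, rfl⟩⟩
    have hnorm : ∀ K : Subgroup ↥T, (∀ φ : MulAut ↥T, K.map φ.toMonoidHom = K) →
        ((K.map (Subgroup.inclusion hTS)).map f).Normal := fun K hK => by
      have : K.Characteristic := characteristic_iff_map_eq.mpr hK
      rw [Subgroup.map_map]
      exact (inferInstance : (K.map T.subtype).Normal)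
    rcases hK with hK | hK
    · exact hK (by
        change ((kInfLower ↥(S : Subgroup G)).map f).Normal
        rw [← key.1]
        exact hnorm _ fun φ => (KSeq.map_equiv φ).1)
    · exact hK (by
        change ((kInfUpper ↥(S : Subgroup G)).map f).Normal
        rw [← key.2]
        exact hnorm _ fun φ => (KSeq.map_equiv φ).2)
  rw [not_forall] at hex
  set n := Nat.find hex
  have hn := Nat.find_spec hex
  have hbelow : ∀ k < n, kSeqEven ↥(S : Subgroup G) k ≤ T' ∧
      kSeqOdd ↥(S : Subgroup G) (k + 1) ≤ T' := fun k hk => not_not.mp (Nat.find_min hex hk)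
  -- `A` lies in the odd terms up to `n`
  have hAodd : A ≤ (kSeqOdd ↥(S : Subgroup G) n).map f := by
    rcases Nat.eq_zero_or_eq_succ_pred n with hn0 | hn0
    · rw [hn0, show kSeqOdd ↥(S : Subgroup G) 0 = ⊤ from rfl, ← MonoidHom.range_eq_map,
        Subgroup.range_subtype]
      exact hAS
    · rw [hn0, odd_succ, ← hA'f]
      refine map_mono (le_sSup ((upper_map_iff hf).mp ?_))
      rw [hA'f]
      have hev := (hle _).mp (hbelow (n - 1) (by omega)).1
      refine ⟨h.classTwo, ?_⟩
      rw [commutator_comm]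
      exact (commutator_mono hev le_rfl).trans h.comm
  by_cases hev : kSeqEven ↥(S : Subgroup G) n ≤ T'
  swap
  · obtain ⟨B, hB, hBT⟩ : ∃ B ∈ kLowerStarFamily (kSeqOdd ↥(S : Subgroup G) n), ¬ B ≤ T' := by
      by_contra hall
      push Not at hall
      exact hev (sSup_le hall)
    obtain ⟨g, hg, hw⟩ := exists_witness_lower h ((lower_map_iff hf).mpr hB) hAodd
      (fun hle' => hBT ((hle B).mpr hle'))
    exact ⟨g, hsub B hg, hw⟩
  obtain ⟨B, hB, hBT⟩ : ∃ B ∈ kUpperStarFamily (kSeqEven ↥(S : Subgroup G) n), ¬ B ≤ T' := by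
    by_contra hall
    push Not at hall
    exact hn ⟨hev, sSup_le hall⟩
  by_cases hAlow : A ∈ kLowerStarFamily ((kSeqOdd ↥(S : Subgroup G) n).map f)
  · obtain ⟨g, hg, hw⟩ := exists_witness_upper h ((upper_map_iff hf).mpr hB) (by
      rw [← hA'f] at hAlow ⊢
      exact map_mono (le_sSup ((lower_map_iff hf).mp hAlow))) (fun hle' => hBT ((hle B).mpr hle'))
    exact ⟨g, hsub B hg, hw⟩
  have hAn := h.normal
  obtain ⟨B, hB2, hBR, hN, h1, h2, hne⟩ : ∃ B ∈ classTwoSubgroups G,
      B ≤ (kSeqOdd ↥(S : Subgroup G) n).map f ∧ A ≤ normalizer (B : Set G) ∧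
      ⁅A, ⁅B, B⁆⁆ = ⊥ ∧ ⁅⁅zc A, B⁆, B⁆ = ⊥ ∧ ¬ ⁅A, B⁆ ≤ zc A := by
    by_contra hall
    simp only [not_exists, not_and, not_not] at hall
    exact hAlow ⟨h.classTwo, by rw [normalizer_eq_top]; exact le_top, fun B hB hBR hN h1 h2 =>
      hall B hB hBR hN h1 h2⟩
  obtain ⟨g, hg, hw⟩ := exists_witness_first h hB2 hN h1 h2 hne
  exact ⟨g, hsub _ (hBR hg), hw⟩

end Cfsg.Agent.Techniques.KInf
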