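import Cfsg.Agent.Base.RecEqns
import Cfsg.Agent.Techniques.KInf.Main
import Cfsg.Agent.Techniques.KInf.Degree
import Cfsg.Agent.Techniques.Critical
import Cfsg.Agent.S0121

/-!
Consequences of a non-normal K-infinity subgroup: degree four and failure of stability.
-/

set_option autoImplicit false

namespace Cfsg.Agent.Techniques.KInf

open Cfsg Subgroup
open scoped commutatorElement

universe u

variable {G : Type u} [Group G] [Finite G] {p : ℕ} [Fact p.Prime]

/-- An element mapping into the p-core of the automizer centralizes a minimal normal p-subgroup. -/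
theorem centralizes_of_mem_pCore {U : Subgroup G} [U.Normal] (hU : IsPGroup p U) (hne : U ≠ ⊥)
    (hmin : ∀ N : Subgroup G, N.Normal → N ≤ U → N = ⊥ ∨ N = U) {g : G}
    (hg : g ∈ normalizer (U : Set G))
    (hcore : (QuotientGroup.mk
        (s := (centralizer (U : Set G)).subgroupOf (normalizer (U : Set G)))
        (⟨g, hg⟩ : ↥(normalizer (U : Set G)))) ∈
      pCore p (↥(normalizer (U : Set G)) ⧸
        (centralizer (U : Set G)).subgroupOf (normalizer (U : Set G)))) :
    g ∈ centralizer (U : Set G) := by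
  have hsurj : Function.Surjective (normalizer (U : Set G)).subtype := fun x =>
    ⟨⟨x, by rw [normalizer_eq_top]; exact mem_top x⟩, rfl⟩
  let π := QuotientGroup.mk' ((centralizer (U : Set G)).subgroupOf (normalizer (U : Set G)))
  set K := ((pCore p (↥(normalizer (U : Set G)) ⧸
    (centralizer (U : Set G)).subgroupOf (normalizer (U : Set G)))).comap π).map
      (normalizer (U : Set G)).subtype with hK
  have hKn : K.Normal := by
    have : (pCore p (↥(normalizer (U : Set G)) ⧸
      (centralizer (U : Set G)).subgroupOf (normalizer (U : Set G)))).Normal :=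
      Cfsg.Agent.PLocal.Cores.pCore_normal'
    exact Normal.map inferInstance _ hsurj
  let ρ : G →* MulAut U := MulAut.conjNormal
  have hKp : IsPGroup p (K.map ρ) := by
    rintro ⟨_, x, hx, rfl⟩
    rw [SetLike.mem_coe, hK] at hx
    obtain ⟨y, hy, rfl⟩ := hx
    obtain ⟨k, hk⟩ := Cfsg.Agent.PLocal.Cores.isPGroup_pCore (p := p) ⟨π y, hy⟩
    refine ⟨k, Subtype.ext ?_⟩
    have h1 : y ^ p ^ k ∈ (centralizer (U : Set G)).subgroupOf (normalizer (U : Set G)) := by
      have h2 := congrArg Subtype.val hk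
      simp only [SubmonoidClass.coe_pow, OneMemClass.coe_one] at h2
      rwa [← map_pow, QuotientGroup.mk'_apply, QuotientGroup.eq_one_iff] at h2
    rw [SubmonoidClass.coe_pow, OneMemClass.coe_one, ← map_pow]
    refine MulEquiv.ext fun u => Subtype.ext ?_
    rw [MulAut.conjNormal_apply, MulAut.one_apply, mul_inv_eq_iff_eq_mul]
    rw [mem_subgroupOf, SubmonoidClass.coe_pow] at h1
    exact (mem_centralizer_iff.mp h1 u u.2).symm
  have hdvd : p ∣ Nat.card U := by
    obtain ⟨n, hn⟩ := hU.exists_card_eq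
    cases n with
    | zero => exact absurd (Subgroup.card_eq_one.mp (by simpa using hn)) hne
    | succ n => rw [hn, pow_succ]; exact dvd_mul_left p _
  obtain ⟨z, hz, hz1⟩ := hKp.exists_fixed_point_of_prime_dvd_card_of_fixed_point ↥U hdvd
    (show (1 : U) ∈ MulAction.fixedPoints ↥(K.map ρ) ↥U from fun k => map_one (k : MulAut U))
  have hzK : (z : G) ∈ U ⊓ centralizer (K : Set G) := by
    refine ⟨z.2, mem_centralizer_iff.mpr fun k hk => ?_⟩
    have h1 := congrArg Subtype.val (hz ⟨ρ k, mem_map_of_mem _ hk⟩)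
    change (ρ k z : G) = z at h1
    rw [MulAut.conjNormal_apply] at h1
    exact mul_inv_eq_iff_eq_mul.mp h1
  rcases hmin (U ⊓ centralizer (K : Set G)) inferInstance inf_le_left with e | e
  · rw [e, mem_bot] at hzK
    exact absurd (Subtype.ext hzK.symm) hz1
  · exact le_centralizer_iff.mp (e.ge.trans inf_le_right) ⟨⟨g, hg⟩, hcore, rfl⟩

/-- A quadratic but nontrivial action on a chief factor of p-power order refutes stability. -/
theorem not_stable_of_factor {U V : Subgroup G} [V.Normal] (hch : IsChiefFactor U V)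
    (hU : U ≤ pCore p G) {g : G} (h2 : ⁅⁅U, zpowers g⁆, zpowers g⁆ ≤ V)
    (h1 : ¬ ⁅U, zpowers g⁆ ≤ V) : ¬ IsNormalizerPStable p (G ⧸ V) := by
  intro hst
  have := hch.2.1
  set π := QuotientGroup.mk' V
  have hsurj := QuotientGroup.mk'_surjective V
  have hker : π.ker = V := QuotientGroup.ker_mk' V
  set U' := U.map π
  have : U'.Normal := Normal.map inferInstance _ hsurj
  have hp : IsPGroup p U' := (Cfsg.Agent.PLocal.Cores.isPGroup_pCore.to_le hU).map π
  have hne : U' ≠ ⊥ := fun h => by
    rw [Subgroup.map_eq_bot_iff, hker] at h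
    exact hch.1.not_ge h
  have hmin : ∀ N : Subgroup (G ⧸ V), N.Normal → N ≤ U' → N = ⊥ ∨ N = U' := fun N hN hle => by
    have hVN : V ≤ N.comap π := hker.ge.trans (ker_le_comap π N)
    have hle' : N.comap π ≤ U := (comap_mono hle).trans_eq
      ((comap_map_eq _ _).trans (by rw [hker, sup_eq_left.mpr hch.1.le]))
    rcases hch.2.2.2 (N.comap π) (hN.comap π) hVN hle' with e | e
    · left; rw [← map_comap_eq_self_of_surjective hsurj N, e, QuotientGroup.map_mk'_self]
    · right; rw [← map_comap_eq_self_of_surjective hsurj N, e]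
  have hgn : π g ∈ normalizer (U' : Set (G ⧸ V)) := by rw [normalizer_eq_top]; exact mem_top _
  have hz : zpowers (π g) = (zpowers g).map π := (MonoidHom.map_zpowers π g).symm
  have hq : ⁅⁅U', zpowers (π g)⁆, zpowers (π g)⁆ = ⊥ := by
    rw [hz, ← map_commutator, ← map_commutator, Subgroup.map_eq_bot_iff, hker]
    exact h2
  have hc := centralizes_of_mem_pCore hp hne hmin hgn (hst U' hp (π g) hgn hq)
  refine h1 ?_
  rw [← hker, ← Subgroup.map_eq_bot_iff, map_commutator, ← hz, commutator_comm,
    commutator_eq_bot_iff_le_centralizer]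
  exact zpowers_le.mpr hc

/-- The p-core has a critical subgroup, in the form needed here. -/
theorem exists_criticalIn (p : ℕ) [Fact p.Prime] : ∃ A : Subgroup G, CriticalIn p A ∧
    pCore p G ⊓ centralizer (A : Set G) = A ⊓ centralizer (A : Set G) := by
  set T := pCore p G
  have hT : IsPGroup p T := Cfsg.Agent.PLocal.Cores.isPGroup_pCore
  have hTn : T.Normal := Cfsg.Agent.PLocal.Cores.pCore_normal'
  obtain ⟨H, hchar, h1, h2, h3⟩ := Critical.exists_critical hT
  have hinj := T.subtype_injective
  refine ⟨H.map T.subtype, ⟨map_subtype_le H, inferInstance, ?_, fun φ hφ hfix => ?_⟩, ?_⟩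
  · rw [show zc (H.map T.subtype) = _ from (KSeq.map_centre hinj H).symm, commutator_comm]
    have hTr : (⊤ : Subgroup T).map T.subtype = T := by
      rw [← MonoidHom.range_eq_map, Subgroup.range_subtype]
    refine le_trans (le_of_eq ?_) (map_mono h2)
    rw [map_commutator, hTr]
  · exact Cfsg.Agent.S0121.result hT H hchar h1 h2 h3 φ hφ fun x hx =>
      hfix x (mem_map_of_mem _ hx)
  · refine le_antisymm (le_inf ?_ inf_le_right) (inf_le_inf_right _ (map_subtype_le H))
    rintro x ⟨hxT, hxC⟩
    refine ⟨⟨x, hxT⟩, h3 (mem_centralizer_iff.mpr fun h hh => Subtype.ext ?_), rfl⟩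
    exact mem_centralizer_iff.mp hxC h (mem_map_of_mem _ hh)

/-- Degree four on every chief factor and quadratic on the centre of the core. -/
theorem exists_degree_four (S : Sylow p G)
    (hK : ¬ (inducedFunctor kInfLower (S : Subgroup G)).Normal ∨
      ¬ (inducedFunctor kInfUpper (S : Subgroup G)).Normal) :
    ∃ g : G, g ∈ (S : Subgroup G) ∧ g ∉ pCore p G ∧
      (∀ U V : Subgroup G, IsChiefFactor U V → U ≤ pCore p G →
        iterCommutator U (zpowers g) 4 ≤ V) ∧
      ⁅⁅pCore p G ⊓ centralizer (pCore p G : Set G), zpowers g⁆, zpowers g⁆ = ⊥ ∧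
      (centralizer (pCore p G : Set G) ≤ pCore p G → ∃ U V : Subgroup G,
        IsChiefFactor U V ∧ U ≤ pCore p G ∧
          ⁅⁅U, zpowers g⁆, zpowers g⁆ ≤ V ∧ ¬ ⁅U, zpowers g⁆ ≤ V) := by
  obtain ⟨A, hA, hcent⟩ := exists_criticalIn (G := G) p
  obtain ⟨g, hgS, hgT, h3, hZ, hfac⟩ := exists_witness S hA hK
  have := hA.normal
  have hTn : (pCore p G).Normal := Cfsg.Agent.PLocal.Cores.pCore_normal'
  refine ⟨g, hgS, hgT, fun U V hch hU => ?_, ?_, fun hC => ?_⟩
  · exact iter_le_of_critical (i := 3) (j := 2) Cfsg.Agent.PLocal.Cores.isPGroup_pCore hA.le hA.comm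
      hcent (by omega) (by omega)
      (fun X Y _ hX => ((iter_mono_left hX 3).trans h3.le).trans bot_le)
      (fun X Y _ hX =>
        ((commutator_mono (commutator_mono hX le_rfl) le_rfl).trans hZ.le).trans bot_le)
      hch hU
  · refine eq_bot_iff.mpr ((commutator_mono (commutator_mono ?_ le_rfl) le_rfl).trans hZ.le)
    exact (inf_le_inf_left _ (centralizer_le (SetLike.coe_subset_coe.mpr hA.le))).trans hcent.le
  · obtain ⟨U, V, hch, hU, h2, h1⟩ := hfac hC
    exact ⟨U, V, hch, hU.trans hA.le, h2, h1⟩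

end Cfsg.Agent.Techniques.KInf
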