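import Cfsg.Agent.Base.RecEqns
import Cfsg.Agent.Techniques.KInf.Stability
import Cfsg.Agent.Techniques.KInf.PowerClosure
import Cfsg.Agent.S1972

/-!
Transfer and weak closure controlled by the K-infinity subgroups.
-/

set_option autoImplicit false

namespace Cfsg.Agent.Techniques.KInf

open Cfsg Subgroup Cfsg.Agent.Techniques.Functor Cfsg.Agent.Fusion.SylIn
open scoped commutatorElement

universe u

variable {p : ℕ} [Fact p.Prime]

/-- Control of transfer in all sections by a functor failing to be normal only with a good element. -/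
theorem controlsTransfer_sections {G : Type u} [Group G] [Finite G] (hp : 5 ≤ p)
    (W : ∀ (Q : Type u) [Group Q], Subgroup Q) (hW : IsCharPFunctor.{u} p W)
    (h : ∀ (H : Type u) [Group H] [Finite H] (S : Sylow p H),
      ¬ (inducedFunctor W (S : Subgroup H)).Normal →
      ¬ (inducedFunctor kInfLower (S : Subgroup H)).Normal ∨
        ¬ (inducedFunctor kInfUpper (S : Subgroup H)).Normal) :
    ∀ (K R : Subgroup G) [(R.subgroupOf K).Normal],
      ControlsTransferIn p (inducedFunctor (G := (↥K ⧸ R.subgroupOf K)) W) ⊤ := by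
  refine Cfsg.Agent.S1972.result W hW fun K R _ _ T hn => ?_
  obtain ⟨g, hgT, hgQ, h4, -, -⟩ := exists_degree_four T (h _ T hn)
  refine ⟨g, hgT, hgQ, fun U V hch hU => ?_⟩
  have := hch.2.1
  exact (iter_antitone U _ (by omega : 4 ≤ p - 1)).trans (h4 U V hch hU)

theorem transfer_eq_of_sections {G : Type u} [Group G] [Finite G]
    (W : ∀ (Q : Type u) [Group Q], Subgroup Q) (hW : IsCharPFunctor.{u} p W)
    (h : ∀ (K R : Subgroup G) [(R.subgroupOf K).Normal],
      ControlsTransferIn p (inducedFunctor (G := (↥K ⧸ R.subgroupOf K)) W) ⊤) (S : Sylow p G) :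
    (S : Subgroup G) ⊓ commutator G = (S : Subgroup G) ⊓
      ⁅normalizer ((inducedFunctor W (S : Subgroup G) : Subgroup G) : Set G),
        normalizer ((inducedFunctor W (S : Subgroup G) : Subgroup G) : Set G)⁆ := by
  have h𝓦 : ∀ V ∈ ({W} : Set (∀ (Q : Type u) [Group Q], Subgroup Q)), IsCharPFunctor.{u} p V := by
    rintro V rfl
    exact hW
  obtain ⟨K, R, hR, ⟨e⟩⟩ := (IsSec.refl G).exists_quotient
  have h1 : TC p {W} G := tc_equiv h𝓦 e ((tc_iff h𝓦).mp (by
    rw [induced, Set.image_singleton, ← controlsTransfer_iff_family]; exact h K R))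
  refine le_antisymm ?_ (inf_le_inf_left _ ?_)
  · have h2 := h1 S
    rw [kk_singleton] at h2
    exact le_inf inf_le_left (h2.trans inf_le_right)
  · rw [commutator_def]
    exact commutator_mono le_top le_top

theorem transfer_kInfLower {G : Type u} [Group G] [Finite G] (hp : 5 ≤ p) (S : Sylow p G) :
    (S : Subgroup G) ⊓ commutator G = (S : Subgroup G) ⊓
      ⁅normalizer ((inducedFunctor kInfLower (S : Subgroup G) : Subgroup G) : Set G),
        normalizer ((inducedFunctor kInfLower (S : Subgroup G) : Subgroup G) : Set G)⁆ :=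
  transfer_eq_of_sections _ KSeq.isCharPFunctor_kInfLower
    (controlsTransfer_sections hp _ KSeq.isCharPFunctor_kInfLower fun _ _ _ _ => Or.inl) S

theorem transfer_kInfUpper {G : Type u} [Group G] [Finite G] (hp : 5 ≤ p) (S : Sylow p G) :
    (S : Subgroup G) ⊓ commutator G = (S : Subgroup G) ⊓
      ⁅normalizer ((inducedFunctor kInfUpper (S : Subgroup G) : Subgroup G) : Set G),
        normalizer ((inducedFunctor kInfUpper (S : Subgroup G) : Subgroup G) : Set G)⁆ :=
  transfer_eq_of_sections _ KSeq.isCharPFunctor_kInfUpper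
    (controlsTransfer_sections hp _ KSeq.isCharPFunctor_kInfUpper fun _ _ _ _ => Or.inr) S

variable {G : Type u} [Group G] [Finite G]

omit [Fact p.Prime] in
theorem center_le_kInfLower [Fact p.Prime] (P : Subgroup G) (hP : IsPGroup p P) :
    P ⊓ centralizer (P : Set G) ≤ inducedFunctor kInfLower P := by
  rintro x ⟨hx, hc⟩
  refine ⟨⟨x, hx⟩, KSeq.centralizer_kInfLower_le hP
    (center_le_centralizer _ (mem_center_iff.mpr fun y => Subtype.ext ?_)), rfl⟩
  exact mem_centralizer_iff.mp hc y y.2

theorem quadCentre_kInfLower :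
    QuadCentre (G := G) p (inducedFunctor (G := G) kInfLower) := by
  intro H T hTH hTp hTd hne
  obtain ⟨R, hR⟩ := exists_sylow_map (⟨hTH, hTp, hTd⟩ : SylIn p T H)
  have hmap := induced_map_of_injective (KSeq.isCharPFunctor_kInfLower (p := p))
    H.subtype_injective R.2
  rw [hR] at hmap
  have hn : ¬ (inducedFunctor kInfLower (R : Subgroup H)).Normal := fun hn => hne fun h hh => by
    rw [← hmap]
    exact le_normalizer_map H.subtype
      ⟨⟨h, hh⟩, by rw [SetLike.mem_coe, normalizer_eq_top_iff.mpr hn]; exact mem_top _, rfl⟩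
  obtain ⟨g, hgR, hgQ, -, hZ, -⟩ := exists_degree_four R (Or.inl hn)
  refine ⟨g, hR ▸ mem_map_of_mem _ hgR, ?_, ?_⟩
  · rintro ⟨g', hg', he⟩
    exact hgQ (Subtype.ext he ▸ hg')
  · rw [show pCoreOf p H = (pCore p H).map H.subtype from rfl,
      ← KSeq.map_centre H.subtype_injective, show zpowers ((g : H) : G) = (zpowers g).map H.subtype
        from (MonoidHom.map_zpowers H.subtype g).symm, ← map_commutator, ← map_commutator, hZ,
      Subgroup.map_bot]

theorem iter_eq_bot_of_two {X H : Subgroup G} (h : ⁅⁅X, H⁆, H⁆ = ⊥) :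
    ∀ {n : ℕ}, 2 ≤ n → iterCommutator X H n = ⊥ := by
  intro n hn
  induction n, hn using Nat.le_induction with
  | base => exact h
  | succ n _ ih => rw [iter_succ, ih, commutator_bot_left]

theorem smallDegree_of_quad (hp : p ≠ 2) {W : Subgroup G → Subgroup G} (h : QuadCentre p W) :
    SmallDegree p W := by
  intro H T h1 h2 h3 h4
  obtain ⟨g, hgT, hgQ, hq⟩ := h H T h1 h2 h3 h4
  refine ⟨g, hgT, hgQ, fun U V _ hU => ?_⟩
  have h2' := (Fact.out : p.Prime).two_le
  rw [iter_eq_bot_of_two (eq_bot_iff.mpr ((commutator_mono (commutator_mono hU le_rfl)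
    le_rfl).trans hq.le)) (by omega : 2 ≤ p - 1)]
  exact bot_le

/-- A normal subgroup of prime index and another prime give a proper normalizer of a Sylow subgroup. -/
theorem false_of_index_prime {r ℓ : ℕ} [Fact r.Prime] (hℓ : ℓ.Prime) (hne : r ≠ ℓ) {N : Subgroup G}
    [N.Normal] (hN : N.index = ℓ) (R : Sylow r G)
    (h : normalizer ((R : Subgroup G) : Set G) = R) : False := by
  have hRN : (R : Subgroup G) ≤ N := fun x hx => by
    obtain ⟨k, hk⟩ := IsPGroup.iff_orderOf.mp R.2 ⟨x, hx⟩
    rw [Subgroup.orderOf_mk] at hk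
    have h1 : orderOf (QuotientGroup.mk x : G ⧸ N) ∣ r ^ k :=
      hk ▸ orderOf_map_dvd (QuotientGroup.mk' N) x
    have h2 : orderOf (QuotientGroup.mk x : G ⧸ N) ∣ ℓ := by
      rw [← hN, index_eq_card]; exact orderOf_dvd_natCard _
    have h3 : Nat.Coprime (r ^ k) ℓ :=
      ((Nat.coprime_primes (Fact.out : r.Prime) hℓ).mpr hne).pow_left k
    exact (QuotientGroup.eq_one_iff x).mp
      (orderOf_eq_one_iff.mp (Nat.eq_one_of_dvd_coprimes h3 h1 h2))
  have htop := R.normalizer_sup_eq_top' hRN
  rw [show normalizer (R : Set G) = (R : Subgroup G) from h, sup_eq_right.mpr hRN] at htop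
  rw [htop, index_top] at hN
  exact hℓ.ne_one hN.symm

end Cfsg.Agent.Techniques.KInf
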