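import Cfsg.Agent.Base.RecEqns
import Cfsg.Prelude.Def_Amalgam
import Cfsg.Agent.Techniques.Functor.ConjFamily
import Cfsg.Agent.Techniques.Functor.Sections
import Cfsg.Agent.Techniques.Functor.TransferCore
import Cfsg.Agent.Techniques.Functor.Chief

/-!
Control of weak closure of elements from degree `p - 1` on the centre of the p-core.
-/

set_option autoImplicit false

namespace Cfsg.Agent.Techniques.KInf

open Cfsg Subgroup Cfsg.Agent.Techniques.Functor Cfsg.Agent.Fusion.SylIn Cfsg.Agent.PLocal.Cores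
open scoped commutatorElement

/-- If `M` is the unique maximal subgroup over `S`, what `M` centralizes in the centre of the
p-core is central. -/
theorem commute_of_unique_maximal {Γ : Type*} [Group Γ] [Finite Γ] {p : ℕ} [Fact p.Prime]
    (S : Sylow p Γ) {M : Subgroup Γ} (hSM : (S : Subgroup Γ) ≤ M)
    (hmax : ∀ R : Subgroup Γ, (S : Subgroup Γ) ≤ R → R ≠ ⊤ → R ≤ M)
    {g : Γ} (hgS : g ∈ (S : Subgroup Γ)) (hgQ : g ∉ pCore p Γ)
    (hnil : ∀ U V : Subgroup Γ, IsChiefFactor U V →
      U ≤ pCore p Γ ⊓ centralizer (pCore p Γ : Set Γ) →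
      iterCommutator U (zpowers g) (p - 1) ≤ V)
    {u : Γ} (huZ : u ∈ pCore p Γ ⊓ centralizer (pCore p Γ : Set Γ))
    (hu : M ≤ centralizer ({u} : Set Γ)) : ∀ l : Γ, l * u = u * l := by
  classical
  have hQn : (pCore p Γ).Normal := pCore_normal'
  set Z0 := pCore p Γ ⊓ centralizer (pCore p Γ : Set Γ) with hZ0def
  suffices main : ∀ n, ∀ W : Subgroup Γ, Nat.card W = n → W.Normal → W ≤ Z0 → ∀ u ∈ W,
      M ≤ centralizer ({u} : Set Γ) → ∀ l : Γ, l * u = u * l from
    main _ Z0 rfl inferInstance le_rfl u huZ hu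
  clear hu huZ u
  intro n
  induction n using Nat.strongRecOn with
  | ind n ih =>
    intro W hn hW hWZ u huW hu
    by_cases hbot : W = ⊥
    · intro l; rw [hbot, mem_bot] at huW; rw [huW, mul_one, one_mul]
    obtain ⟨V, hV⟩ := (Set.toFinite {N : Subgroup Γ | N.Normal ∧ N < W}).exists_maximal
      ⟨⊥, inferInstance, bot_lt_iff_ne_bot.mpr hbot⟩
    obtain ⟨hVn, hVW⟩ := hV.1
    have hch : IsChiefFactor W V := ⟨hVW, hW, hVn, fun N hN h1 h2 => by
      rcases h2.eq_or_lt with e | e
      · exact Or.inr e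
      · exact Or.inl (le_antisymm (hV.2 ⟨hN, e⟩ h1) h1)⟩
    have hcard : Nat.card V < n := hn ▸ lt_of_not_ge fun hge =>
      hVW.ne (Subgroup.eq_of_le_of_card_ge hVW.le hge)
    have hW2 : IsMulCommutative W := by
      rw [← le_centralizer_iff_isMulCommutative]
      exact (hWZ.trans inf_le_right).trans
        (centralizer_le (SetLike.coe_subset_coe.mpr (hWZ.trans inf_le_left)))
    let : CommGroup W := { (inferInstance : Group W) with mul_comm := hW2.is_comm.comm }
    -- the elements of `S` of small degree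
    set gens : Set Γ := {s | s ∈ (S : Subgroup Γ) ∧ ∀ U' V' : Subgroup Γ, IsChiefFactor U' V' →
      U' ≤ Z0 → iterCommutator U' (zpowers s) (p - 1) ≤ V'} with hgens
    set D := closure gens with hD
    have hconj : ∀ (c s : Γ), (∀ U' V' : Subgroup Γ, IsChiefFactor U' V' → U' ≤ Z0 →
        iterCommutator U' (zpowers s) (p - 1) ≤ V') → ∀ U' V' : Subgroup Γ, IsChiefFactor U' V' →
        U' ≤ Z0 → iterCommutator U' (zpowers (c * s * c⁻¹)) (p - 1) ≤ V' := by
      intro c s hs U' V' hch' hU'
      have hmap : ∀ j, (iterCommutator U' (zpowers s) j).map (cnj c) =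
          iterCommutator U' (zpowers (c * s * c⁻¹)) j := by
        intro j
        induction j with
        | zero => exact map_cnj_eq_self.mpr (normalizer_eq_top_iff.mpr hch'.2.1 ▸ mem_top c)
        | succ j ih' =>
          change (⁅iterCommutator U' (zpowers s) j, zpowers s⁆).map (cnj c) = _
          rw [map_commutator, ih', MonoidHom.map_zpowers]
          rfl
      rw [← hmap]
      exact (map_mono (hs U' V' hch' hU')).trans
        (map_cnj_eq_self.mpr (normalizer_eq_top_iff.mpr hch'.2.2.1 ▸ mem_top c)).le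
    have hDS : D ≤ (S : Subgroup Γ) := (closure_le _).mpr fun s hs => hs.1
    have hND : normalizer ((S : Subgroup Γ) : Set Γ) ≤ normalizer (D : Set Γ) := by
      intro c hcn
      rw [← map_cnj_eq_self]
      refine Subgroup.eq_of_le_of_card_ge ?_ (card_map_cnj _ _).ge
      rw [map_le_iff_le_comap, closure_le]
      exact fun s hs => subset_closure
        ⟨(Subgroup.mem_normalizer_iff.mp hcn s).mp hs.1, hconj c s hs.2⟩
    have hDM : normalizer (D : Set Γ) ≤ M := by
      refine hmax _ (le_normalizer.trans hND) fun e => hgQ ?_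
      have : D.Normal := normalizer_eq_top_iff.mp e
      exact le_pCore (S.2.to_le hDS) (subset_closure ⟨hgS, hnil⟩)
    let : Fintype (Γ ⧸ M) := Fintype.ofFinite _
    -- conjugates of `u` depend only on the coset
    have hinv : ∀ {s t : Γ}, t⁻¹ * s ∈ M → s * u * s⁻¹ = t * u * t⁻¹ := by
      intro s t h
      have h1 : (t⁻¹ * s) * u = u * (t⁻¹ * s) :=
        mem_centralizer_singleton_iff.mp (hu h)
      calc s * u * s⁻¹ = t * ((t⁻¹ * s) * u) * s⁻¹ := by group
        _ = t * (u * (t⁻¹ * s)) * s⁻¹ := by rw [h1]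
        _ = t * u * t⁻¹ := by group
    let c : Γ ⧸ M → W := fun q => ⟨q.out * u * q.out⁻¹, hW.conj_mem u huW _⟩
    have hcout : ∀ t : Γ, ((c (t : Γ ⧸ M) : W) : Γ) = t * u * t⁻¹ := fun t =>
      hinv (by rw [← QuotientGroup.eq, QuotientGroup.out_eq'])
    set y : W := ∏ q, c q with hy
    -- the product is fixed by everything
    have hyfix : ∀ l : Γ, l * (y : Γ) = (y : Γ) * l := by
      intro l
      have h1 : (MulAut.conjNormal l : MulAut W) y = y := by
        rw [hy, map_prod]
        refine Fintype.prod_equiv (MulAction.toPerm l) _ _ fun q => Subtype.ext ?_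
        induction q using QuotientGroup.induction_on with
        | _ t =>
        change ((MulAut.conjNormal l : MulAut W) (c (t : Γ ⧸ M)) : Γ) = (c ((l * t : Γ) : Γ ⧸ M) : Γ)
        rw [MulAut.conjNormal_apply, hcout, hcout]
        group
      have h2 := congrArg Subtype.val h1
      rw [MulAut.conjNormal_apply] at h2
      exact mul_inv_eq_iff_eq_mul.mp h2
    -- modulo `V` it is `u`
    let N : Subgroup W := V.subgroupOf W
    let h : W →* W ⧸ N := QuotientGroup.mk' N
    have hpW : ∀ z : W, h z ^ p = 1 := fun z => by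
      rw [← map_pow, QuotientGroup.mk'_apply, QuotientGroup.eq_one_iff, mem_subgroupOf,
        SubmonoidClass.coe_pow]
      exact chief_pow_mem hch (isPGroup_pCore.to_le (hWZ.trans inf_le_left)) z.2
    have hper : ∀ d ∈ {d : D | (d : Γ) ∈ gens}, ∀ q : Γ ⧸ M,
        ∏ i ∈ Finset.range p, h (c (d ^ i • q)) = 1 := by
      intro d hd q
      induction q using QuotientGroup.induction_on with
      | _ t =>
      rw [← prod_range_map_conj (p := p) (V := V) h hpW
        (fun z hz => (QuotientGroup.eq_one_iff z).mpr hz) (hd.2 W V hch hWZ)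
        (hW.conj_mem u huW t)]
      refine Finset.prod_congr rfl fun i _ => congrArg h (Subtype.ext ?_)
      refine (hcout (((d ^ i : D) : Γ) * t)).trans ?_
      simp [mul_assoc]
    have hgen : closure {d : D | (d : Γ) ∈ gens} = ⊤ := by
      rw [eq_top_iff]
      refine le_of_eq_of_le (closure_closure_coe_preimage (k := gens)).symm ?_
      exact closure_mono fun d hd => hd
    have hprod := prod_eq_prod_fixed (p := p) (D := D) (X := Γ ⧸ M) (S.2.to_le hDS)
      {d : D | (d : Γ) ∈ gens} hgen (fun q => h (c q)) hper ((1 : Γ) : Γ ⧸ M) (by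
        rw [eq_top_iff]
        intro d _
        rw [MulAction.mem_stabilizer_iff]
        change (((d : Γ) * 1 : Γ) : Γ ⧸ M) = _
        rw [QuotientGroup.eq]
        simpa using hSM (hDS d.2)) (by
        intro q hq
        induction q using QuotientGroup.induction_on with
        | _ t =>
        have hle : D.map (cnj t⁻¹) ≤ M := by
          rw [map_cnj_le_iff]
          intro d hd
          have h1 := MulAction.mem_stabilizer_iff.mp (hq.ge (mem_top (⟨d, hd⟩ : D)))
          change ((d * t : Γ) : Γ ⧸ M) = t at h1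
          rw [eq_comm, QuotientGroup.eq] at h1
          simpa [mul_assoc] using h1
        have hs := sylIn_of_le S hSM
        obtain ⟨m, hm', hmle⟩ := exists_conj_le_of_not_dvd_relIndex hs.1 hs.2.1 hs.2.2
          ((S.2.to_le hDS).map _) hle
        have hN : m * t⁻¹ ∈ normalizer (D : Set Γ) := by
          rw [← map_cnj_eq_self]
          refine Subgroup.eq_of_le_of_card_ge ?_ (card_map_cnj _ _).ge
          rw [map_le_iff_le_comap, closure_le]
          intro s hs'
          refine subset_closure ⟨?_, hconj _ s hs'.2⟩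
          have := hmle _ (conj_mem_map_conj (g := t⁻¹) (subset_closure hs'))
          simpa [mul_assoc] using this
        rw [QuotientGroup.eq]
        have h2 := M.mul_mem (M.inv_mem hm') (hDM hN)
        simpa using h2)
    have hyu : (y : Γ) * u⁻¹ ∈ V := by
      rw [← map_prod, ← hy] at hprod
      have h1 : h y = h ⟨u, huW⟩ :=
        hprod.trans (congrArg h (Subtype.ext (by rw [hcout]; simp)))
      rw [← mul_inv_eq_one, ← map_inv, ← map_mul, QuotientGroup.mk'_apply,
        QuotientGroup.eq_one_iff] at h1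
      exact h1
    have hyuM : M ≤ centralizer ({(y : Γ) * u⁻¹} : Set Γ) := fun m hm => by
      rw [mem_centralizer_singleton_iff]
      exact ((show Commute m (y : Γ) from hyfix m).mul_right
        (show Commute m u from mem_centralizer_singleton_iff.mp (hu hm)).inv_right).eq
    have hrec := ih _ hcard V rfl hVn (hVW.le.trans hWZ) _ hyu hyuM
    intro l
    have h2 : Commute l (((y : Γ) * u⁻¹)⁻¹ * (y : Γ)) :=
      (show Commute l ((y : Γ) * u⁻¹) from hrec l).inv_right.mul_right (hyfix l)
    simpa using h2.eq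

variable {G : Type*} [Group G] [Finite G] {p : ℕ} [Fact p.Prime] {W : Subgroup G → Subgroup G}

/-- The hypothesis of small degree on the centres of the p-cores. -/
abbrev SmallDegree (p : ℕ) (W : Subgroup G → Subgroup G) : Prop :=
  ∀ (H T : Subgroup G), T ≤ H → IsPGroup p ↥T → ¬ p ∣ T.relIndex H →
    ¬ H ≤ normalizer ((W T : Subgroup G) : Set G) →
    ∃ g : G, g ∈ T ∧ g ∉ pCoreOf p H ∧ ∀ U V : Subgroup ↥H, IsChiefFactor U V →
      U.map H.subtype ≤ pCoreOf p H ⊓ centralizer ((pCoreOf p H : Subgroup G) : Set G) →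
      iterCommutator (U.map H.subtype) (zpowers g) (p - 1) ≤ V.map H.subtype

theorem iter_map {K : Type*} [Group K] (f : K →* G) (U X : Subgroup K) (n : ℕ) :
    (iterCommutator U X n).map f = iterCommutator (U.map f) (X.map f) n := by
  induction n with
  | zero => rfl
  | succ n ih =>
    change (⁅iterCommutator U X n, X⁆).map f = ⁅iterCommutator (U.map f) (X.map f) n, X.map f⁆
    rw [map_commutator, ih]

theorem pCoreOf_mono {L L1 : Subgroup G} (h : L1 ≤ L) (hQ : pCoreOf p L ≤ L1) :
    pCoreOf p L ≤ pCoreOf p L1 := by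
  refine le_map_pCore_of_le_normalizer (isPGroup_pCore.map _) hQ ?_
  exact h.trans (le_normalizer_map_pCore L)

theorem le_centralizer_of_local (hloc : SmallDegree p W) :
    ∀ {L T : Subgroup G}, SylIn p T L → ∀ {x : G}, x ∈ pCoreOf p L →
      T ≤ centralizer ({x} : Set G) → L ⊓ normalizer (W T : Set G) ≤ centralizer ({x} : Set G) →
      L ≤ centralizer ({x} : Set G) := by
  intro L
  induction hn : Nat.card L using Nat.strongRecOn generalizing L with
  | ind n ih =>
  intro T hT x hxQ hTx hNx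
  by_cases hnorm : L ≤ normalizer (W T : Set G)
  · exact (le_inf le_rfl hnorm).trans hNx
  obtain ⟨g, hgT, hgQ, hnil⟩ := hloc L T hT.1 hT.2.1 hT.2.2 hnorm
  obtain ⟨R, hR⟩ := exists_sylow_map hT
  have hxL : x ∈ L := map_subtype_le _ hxQ
  have hinj := L.subtype_injective
  have hQR : pCoreOf p L ≤ T := hR ▸ map_mono (pCore_le_sylow R)
  -- proper subgroups over `T`
  have hproper : ∀ L1 : Subgroup G, T ≤ L1 → L1 < L → L1 ≤ centralizer ({x} : Set G) := by
    intro L1 hT1 hlt
    have hcard : Nat.card L1 < n := hn ▸ lt_of_not_ge fun hge =>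
      hlt.ne (Subgroup.eq_of_le_of_card_ge hlt.le hge)
    exact ih _ hcard rfl (hT.mono hT1 hlt.le) (pCoreOf_mono hlt.le (hQR.trans hT1) hxQ) hTx
      ((inf_le_inf_right _ hlt.le).trans hNx)
  set M : Subgroup L := (centralizer ({x} : Set G)).subgroupOf L with hM
  have hgL : g ∈ L := hT.1 hgT
  have key := commute_of_unique_maximal R (M := M) (fun r hr => hTx (hR ▸ mem_map_of_mem _ hr))
    (fun L1 hL1 hne => ?_) (g := ⟨g, hgL⟩) ?_ ?_ ?_ (u := ⟨x, hxL⟩) ?_ ?_
  · intro l hl
    rw [mem_centralizer_singleton_iff]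
    exact congrArg Subtype.val (key ⟨l, hl⟩)
  · refine map_le_iff_le_comap.mp (hproper (L1.map L.subtype) (hR ▸ map_mono hL1) ?_)
    refine lt_of_le_of_ne (map_subtype_le L1) fun e => hne (map_injective hinj ?_)
    rw [e, ← MonoidHom.range_eq_map, range_subtype]
  · rw [← hR] at hgT
    obtain ⟨g', hg', he⟩ := hgT
    obtain rfl : g' = ⟨g, hgL⟩ := Subtype.ext he
    exact hg'
  · exact fun h => hgQ ⟨_, h, rfl⟩
  · intro U V hch hU
    rw [← map_le_map_iff_of_injective hinj, iter_map, MonoidHom.map_zpowers]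
    refine hnil U V hch (le_inf (map_mono (hU.trans inf_le_left)) ?_)
    rw [le_centralizer_iff]
    rintro _ ⟨q, hq, rfl⟩
    rw [mem_centralizer_iff]
    rintro _ ⟨v, hv, rfl⟩
    exact congrArg Subtype.val (mem_centralizer_iff.mp (hU hv).2 q hq).symm
  · obtain ⟨x', hx', he⟩ := hxQ
    obtain rfl : x' = ⟨x, hxL⟩ := Subtype.ext he
    refine ⟨hx', mem_centralizer_iff.mpr fun q hq => Subtype.ext ?_⟩
    have := mem_centralizer_singleton_iff.mp (hTx (hQR (mem_map_of_mem _ hq)))
    exact this
  · intro l hl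
    rw [mem_centralizer_singleton_iff]
    exact Subtype.ext (mem_centralizer_singleton_iff.mp hl)

/-- Reduction along well placed subgroups. -/
theorem exists_bad_local {Γ : Type*} [Group Γ] [Finite Γ] (S : Sylow p Γ)
    {W : Subgroup Γ → Subgroup Γ} (hW : IsConjugacyFunctor p W)
    (hWZ : ∀ P : Subgroup Γ, IsPGroup p ↥P → P ⊓ centralizer (P : Set Γ) ≤ W P) {x : Γ}
    (hxS : x ∈ (S : Subgroup Γ)) (hSx : (S : Subgroup Γ) ≤ centralizer ({x} : Set Γ))
    (hNx : normalizer (W (S : Subgroup Γ) : Set Γ) ≤ centralizer ({x} : Set Γ)) {h : Γ}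
    (hh : h * x * h⁻¹ ∈ (S : Subgroup Γ)) (hne : h * x * h⁻¹ ≠ x) :
    ∃ T : Subgroup Γ, T ≤ S ∧ x ∈ T ∧ SylIn p (nS (S : Subgroup Γ) T) (normalizer (T : Set Γ)) ∧
      normalizer (W (nS (S : Subgroup Γ) T) : Set Γ) ≤ centralizer ({x} : Set Γ) ∧
      ¬ normalizer (T : Set Γ) ≤ centralizer ({x} : Set Γ) := by
  classical
  let bad : Set (Subgroup Γ) := {T | IsWellPlaced p W (S : Subgroup Γ) T ∧ x ∈ T ∧
    ¬ normalizer (T : Set Γ) ≤ centralizer ({x} : Set Γ)}
  have hbad : bad.Nonempty := by
    by_contra hno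
    apply hne
    obtain ⟨n, T, y, h1, h2, h3, h4, h5⟩ :=
      (isConjugationFamily_wellPlaced S hW).2 {x} h⁻¹ ⟨x, rfl⟩ (Set.singleton_subset_iff.mpr hxS)
        (by
          rintro _ ⟨a, rfl, rfl⟩
          change (h⁻¹)⁻¹ * a * h⁻¹ ∈ (S : Subgroup Γ)
          rwa [inv_inv])
    have key : ∀ k : ℕ, k ≤ n → ((List.ofFn y).take k).prod ∈ centralizer ({x} : Set Γ) := by
      intro k
      induction k with
      | zero => intro _; simp [one_mem]
      | succ k ih =>
        intro hk
        rw [List.prod_take_succ _ _ (by simpa using hk)]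
        refine Subgroup.mul_mem _ (ih (by omega)) ?_
        rw [List.getElem_ofFn]
        have hx : x ∈ T ⟨k, hk⟩ := by
          cases k with
          | zero => exact h4 hk rfl
          | succ j =>
            refine h5 ⟨j, by omega⟩ hk ⟨x, rfl, ?_⟩
            have hj := mem_centralizer_singleton_iff.mp (ih (by omega))
            change _⁻¹ * x * _ = x
            rw [mul_assoc, ← hj, inv_mul_cancel_left]
        by_contra hc
        exact hno ⟨T ⟨k, hk⟩, h2 _, hx, fun hle => hc (hle (h3 _))⟩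
    have h6 := key n le_rfl
    rw [List.take_of_length_le (by simp), h1, Subgroup.inv_mem_iff,
      mem_centralizer_singleton_iff] at h6
    exact mul_inv_eq_iff_eq_mul.mpr h6
  obtain ⟨T, hT, hTmax⟩ := Set.exists_max_image bad
    (fun T => Nat.card (nS (S : Subgroup Γ) T)) (Set.toFinite _) hbad
  obtain ⟨hwp, hxT, hN⟩ := hT
  set P := nS (S : Subgroup Γ) T
  refine ⟨T, hwp.1, hxT, wellPlaced_sylIn S hwp, ?_, hN⟩
  have hPp : IsPGroup p P := S.2.to_le inf_le_left
  rcases eq_or_lt_of_le (inf_le_left : P ≤ (S : Subgroup Γ)) with e | e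
  · rw [show nS (S : Subgroup Γ) T = (S : Subgroup Γ) from e]
    exact hNx
  · by_contra hle
    have hxP : x ∈ P := le_nS hwp.1 hxT
    have hU : W P ∈ bad := by
      refine ⟨⟨(functor_le hW hPp).trans inf_le_left, fun i => ?_⟩, hWZ P hPp ⟨hxP, ?_⟩, hle⟩
      · have h1 := hwp.2 (i + 1)
        rwa [tower_succ] at h1
      · exact mem_centralizer_iff.mpr fun q hq =>
          mem_centralizer_singleton_iff.mp (hSx ((inf_le_left : P ≤ (S : Subgroup Γ)) hq))
    have h3 : P < nS (S : Subgroup Γ) (W P) := lt_of_lt_of_le (lt_nS S.2 e)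
      (inf_le_inf le_rfl (normalizer_le_functor hW hPp))
    exact absurd (hTmax _ hU) (not_le.mpr (card_lt_card' h3))
where
  card_lt_card' {Γ : Type _} [Group Γ] [Finite Γ] {H K : Subgroup Γ} (h : H < K) :
      Nat.card H < Nat.card K :=
    Set.Finite.card_lt_card (Set.toFinite _) (SetLike.coe_ssubset_coe.mpr h)

/-- The conjugacy functor controls weak closure of elements. -/
theorem controlsWeakClosure (hW : IsConjugacyFunctor p W)
    (hWZ : ∀ P : Subgroup G, IsPGroup p ↥P → P ⊓ centralizer (P : Set G) ≤ W P)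
    (hloc : SmallDegree p W) (H : Subgroup G) : ControlsWeakClosureOfElementsIn p W H := by
  refine ⟨hWZ, ?_⟩
  obtain ⟨T, -, hT⟩ := exists_sylIn (p := p) (bot_le : (⊥ : Subgroup G) ≤ H)
    (IsPGroup.of_bot)
  refine ⟨T, hT.1, hT.2.1, hT.2.2, fun x hx h hh hc => ?_⟩
  obtain ⟨hxT, hxN⟩ := mem_inf.mp hx
  by_contra hne
  obtain ⟨R, hR⟩ := exists_sylow_map hT
  have hι := H.subtype_injective
  let W' : Subgroup H → Subgroup H := fun P => (W (P.map H.subtype)).comap H.subtype
  have hW'map : ∀ {P : Subgroup H}, IsPGroup p P → (W' P).map H.subtype = W (P.map H.subtype) :=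
    fun {P} hP => map_comap_eq_self (by
      rw [range_subtype]; exact (functor_le hW (hP.map _)).trans (map_subtype_le P))
  have hW' : IsConjugacyFunctor p W' := fun P hP => by
    refine ⟨?_, fun hne' he => ?_, fun c => map_injective hι ?_⟩
    · rw [← map_le_map_iff_of_injective hι, hW'map hP]; exact functor_le hW (hP.map _)
    · refine functor_ne_bot hW (hP.map H.subtype) ?_ ?_
      · rwa [Ne, map_eq_bot_iff_of_injective _ hι]
      · rw [← hW'map hP, he, Subgroup.map_bot]
    · have hcomm : ∀ Q : Subgroup H, (Q.map (MulAut.conj c).toMonoidHom).map H.subtype =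
          (Q.map H.subtype).map (MulAut.conj (c : G)).toMonoidHom := fun Q => by
        rw [Subgroup.map_map, Subgroup.map_map]
        rfl
      rw [hW'map (hP.map _), hcomm, hcomm, hW'map hP]
      exact functor_map hW (hP.map _) (c : G)
  have hWZ' : ∀ P : Subgroup H, IsPGroup p ↥P → P ⊓ centralizer (P : Set H) ≤ W' P := by
    intro P hP
    rw [← map_le_iff_le_comap]
    refine le_trans ?_ (hWZ _ (hP.map _))
    rintro _ ⟨z, ⟨hz1, hz2⟩, rfl⟩
    refine ⟨mem_map_of_mem _ hz1, mem_centralizer_iff.mpr ?_⟩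
    rintro _ ⟨q, hq, rfl⟩
    exact congrArg Subtype.val (mem_centralizer_iff.mp hz2 q hq)
  have hxH : x ∈ H := hT.1 hxT
  have hWT : ∀ {z : H}, z ∈ normalizer (W' (R : Subgroup H) : Set H) →
      (z : G) ∈ normalizer (W T : Set G) := fun {z} hz => by
    have := le_normalizer_map H.subtype (mem_map_of_mem _ hz)
    rwa [hW'map R.2, hR] at this
  have hcx : ∀ z : G, z ∈ H → z ∈ normalizer (W T : Set G) → Commute z x := fun z h1 h2 =>
    mem_centralizer_iff.mp hxN z ⟨h1, h2⟩
  have h1 : (⟨x, hxH⟩ : H) ∈ (R : Subgroup H) := by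
    rw [← mem_map_iff_mem hι, hR]; exact hxT
  have h2 : (R : Subgroup H) ≤ centralizer ({⟨x, hxH⟩} : Set H) := by
    intro z hz
    rw [mem_centralizer_singleton_iff]
    exact Subtype.ext (hcx z z.2 (hWT (le_normalizer.trans (normalizer_le_functor hW' R.2) hz))).eq
  have h3 : normalizer (W' (R : Subgroup H) : Set H) ≤ centralizer ({⟨x, hxH⟩} : Set H) := by
    intro z hz
    rw [mem_centralizer_singleton_iff]
    exact Subtype.ext (hcx z z.2 (hWT hz)).eq
  have h4 : (⟨h, hh⟩ : H) * ⟨x, hxH⟩ * (⟨h, hh⟩ : H)⁻¹ ∈ (R : Subgroup H) := by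
    rw [← mem_map_iff_mem hι, hR]; exact hc
  obtain ⟨U, hUR, hxU, hsyl, hN, hnot⟩ := exists_bad_local R hW' hWZ' h1 h2 h3 h4
    fun e => hne (congrArg Subtype.val e)
  apply hnot
  set L := (normalizer (U : Set H)).map H.subtype
  set P := (nS (R : Subgroup H) U).map H.subtype
  have hP : SylIn p P L := ⟨map_mono hsyl.1, hsyl.2.1.map _, by
    rw [relIndex_map_map_of_injective _ _ hι]; exact hsyl.2.2⟩
  have hmem : ∀ z : H, z ∈ centralizer ({⟨x, hxH⟩} : Set H) ↔
      (z : G) ∈ centralizer ({x} : Set G) := fun z => by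
    rw [mem_centralizer_singleton_iff, mem_centralizer_singleton_iff, Subtype.ext_iff]
    rfl
  have hU : U.map H.subtype ≤ pCoreOf p L := by
    refine le_map_pCore_of_le_normalizer ((R.2.to_le hUR).map _) (map_mono le_normalizer) ?_
    exact le_normalizer_map _
  have key := le_centralizer_of_local hloc hP (hU (mem_map_of_mem _ hxU)) ?_ ?_
  · exact fun z hz => (hmem z).mpr (key (mem_map_of_mem _ hz))
  · rintro _ ⟨z, hz, rfl⟩
    exact mem_centralizer_singleton_iff.mpr
      (hcx z z.2 (hWT (le_normalizer.trans (normalizer_le_functor hW' R.2) hz.1))).eq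
  · rintro _ ⟨⟨z, -, rfl⟩, hz⟩
    refine (hmem z).mp (hN ?_)
    have hPp : IsPGroup p (nS (R : Subgroup H) U) := R.2.to_le inf_le_left
    rw [mem_normalizer_iff]
    intro w
    have := mem_normalizer_iff.mp hz (w : G)
    rw [← hW'map hPp] at this
    have e1 : ∀ v : H, (v : G) ∈ (W' (nS (R : Subgroup H) U)).map H.subtype ↔
        v ∈ W' (nS (R : Subgroup H) U) := fun v => mem_map_iff_mem hι
    exact ((e1 w).symm.trans this).trans (e1 (z * w * z⁻¹))

end Cfsg.Agent.Techniques.KInf
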